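import Cfsg.Agent.H558.Orth.Omg
import Cfsg.Agent.H558.Deg4Data.Order
import Cfsg.Agent.H556.OmMax

/-!
# Elements of small support of prime order dividing `q² - 1`
-/

set_option autoImplicit false
set_option linter.unusedSectionVars false

namespace Cfsg.Agent.H558.Orth

open Module QuadraticMap Cfsg.Agent.H167.OP Cfsg.Agent.H170.HL Cfsg.Agent.H170.HL.OmRow Cfsg.Agent.H556.Om
open Cfsg.Agent.H558.Deg4Data

section tau

variable {F : Type} [Field F] [Fintype F]

theorem mem_range_of_pow {K : Type*} [Field K] [Algebra F K] {x : K} (hx : x ^ Fintype.card F = x) :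
    ∃ a : F, algebraMap F K a = x := by
  classical
  have hq := Fintype.one_lt_card (α := F)
  have hne : (Polynomial.X ^ Fintype.card F - Polynomial.X : Polynomial K) ≠ 0 :=
    FiniteField.X_pow_card_sub_X_ne_zero K hq
  have hs : (Finset.univ.image fun a : F => algebraMap F K a) ⊆
      (Polynomial.X ^ Fintype.card F - Polynomial.X : Polynomial K).roots.toFinset := by
    intro y hy
    obtain ⟨a, -, rfl⟩ := Finset.mem_image.1 hy
    rw [Multiset.mem_toFinset, Polynomial.mem_roots hne, Polynomial.IsRoot.def]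
    simp only [Polynomial.eval_sub, Polynomial.eval_pow, Polynomial.eval_X]
    rw [← map_pow, FiniteField.pow_card, sub_self]
  have hc : (Polynomial.X ^ Fintype.card F - Polynomial.X : Polynomial K).roots.toFinset.card ≤
      (Finset.univ.image fun a : F => algebraMap F K a).card := by
    rw [Finset.card_image_of_injective _ (algebraMap F K).injective, Finset.card_univ]
    refine (Multiset.toFinset_card_le _).trans ((Polynomial.card_roots' _).trans ?_)
    rw [FiniteField.X_pow_card_sub_X_natDegree_eq K hq]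
  have he := Finset.eq_of_subset_of_card_le hs hc
  have : x ∈ (Polynomial.X ^ Fintype.card F - Polynomial.X : Polynomial K).roots.toFinset := by
    rw [Multiset.mem_toFinset, Polynomial.mem_roots hne, Polynomial.IsRoot.def]
    simp only [Polynomial.eval_sub, Polynomial.eval_pow, Polynomial.eval_X]
    rw [hx, sub_self]
  rw [← he, Finset.mem_image] at this
  obtain ⟨a, -, ha⟩ := this
  exact ⟨a, ha⟩

/-- the trace of an element of order `t` of the torus of order `q ± 1` -/
theorem exists_tau {p : ℕ} [CharP F p] (hp : p.Prime) {t : ℕ} (ht : t.Prime) (ht2 : t ≠ 2)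
    (htq : t ∣ Fintype.card F ^ 2 - 1) :
    ∃ τ : F, 4 - τ ^ 2 ≠ 0 ∧ (!![0, -1; 1, τ] : Matrix (Fin 2) (Fin 2) F) ^ t = 1 := by
  have := Fact.mk hp
  have hKc : Nat.card (FiniteField.Extension F p 2) = Fintype.card F ^ 2 := by
    rw [FiniteField.natCard_extension, Nat.card_eq_fintype_card]
  have hfin := Fintype.ofFinite (FiniteField.Extension F p 2)
  rw [Nat.card_eq_fintype_card] at hKc
  obtain ⟨a, ha0, hat, ha1, ha2, hcase⟩ := exists_root hKc ht ht2 htq
  have hfr : (a + a⁻¹) ^ Fintype.card F = a + a⁻¹ := by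
    obtain ⟨n, -, hn⟩ := FiniteField.card F p
    have hchar : CharP (FiniteField.Extension F p 2) p :=
      charP_of_injective_algebraMap (algebraMap F (FiniteField.Extension F p 2)).injective p
    rw [hn] at hcase ⊢
    rw [add_pow_char_pow, inv_pow]
    rcases hcase with h | h
    · rw [h]
    · rw [h, inv_inv, add_comm]
  obtain ⟨τ, hτ⟩ := mem_range_of_pow (F := F) hfr
  refine ⟨τ, ?_, ?_⟩
  · intro h0
    have h1 := congrArg (algebraMap F (FiniteField.Extension F p 2)) h0
    rw [map_sub, map_pow, hτ, map_ofNat, map_zero] at h1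
    have h2 : (a - a⁻¹) ^ 2 = 0 := by
      have h3 : a * a⁻¹ = 1 := mul_inv_cancel₀ ha0
      linear_combination -h1 - 4 * h3
    exact ha2 (sub_eq_zero.1 (pow_eq_zero_iff (two_ne_zero) |>.1 h2))
  · apply Matrix.map_injective (algebraMap F (FiniteField.Extension F p 2)).injective
    show ((!![0, -1; 1, τ] : Matrix (Fin 2) (Fin 2) F) ^ t).map (algebraMap F (FiniteField.Extension F p 2))
      = (1 : Matrix (Fin 2) (Fin 2) F).map (algebraMap F (FiniteField.Extension F p 2))
    rw [Matrix.map_pow, Matrix.map_one _ (map_zero _) (map_one _)]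
    refine pow_eq_one_of_trace ha0 hat ha2 _ ?_ ?_
    · rw [Matrix.det_fin_two]
      simp
    · rw [Matrix.trace_fin_two]
      simp [hτ]

end tau

variable {F : Type} [Field F] {ι : Type} [Fintype ι] [DecidableEq ι] {Q : QuadraticForm F (ι → F)}

section rot

variable (f : (ι → F) →ₗ[F] (ι → F) →ₗ[F] F) (u v : ι → F) (τ : F)

/-- the first coordinate -/
noncomputable def al : (ι → F) →ₗ[F] F := (4 - τ ^ 2)⁻¹ • ((2 : F) • f u - τ • f v)

/-- the second coordinate -/
noncomputable def be : (ι → F) →ₗ[F] F := (4 - τ ^ 2)⁻¹ • ((2 : F) • f v - τ • f u)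

/-- the rotation -/
noncomputable def rot : Module.End F (ι → F) :=
  1 + (al f u v τ).smulRight (v - u) + (be f u v τ).smulRight (τ • v - u - v)

variable {f u v τ}

theorem rot_apply (w : ι → F) : rot f u v τ w = w + al f u v τ w • (v - u) + be f u v τ w • (τ • v - u - v) := rfl

/-- the plane -/
structure Plane (f : (ι → F) →ₗ[F] (ι → F) →ₗ[F] F) (u v : ι → F) (τ : F) : Prop where
  uu : f u u = 2
  vv : f v v = 2
  uv : f u v = τ
  vu : f v u = τ
  ne : 4 - τ ^ 2 ≠ 0

theorem Plane.al_eq (h : Plane f u v τ) (c : Fin 2 → F) {w : ι → F} (hu : f u w = 0) (hv : f v w = 0) :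
    al f u v τ (c 0 • u + c 1 • v + w) = c 0 := by
  have h1 : al f u v τ (c 0 • u + c 1 • v + w) = (4 - τ ^ 2)⁻¹ * (2 * f u (c 0 • u + c 1 • v + w)
    - τ * f v (c 0 • u + c 1 • v + w)) := rfl
  rw [h1, map_add, map_add, map_smul, map_smul, map_add, map_add, map_smul, map_smul, hu, hv, h.uu, h.uv, h.vu, h.vv]
  simp only [smul_eq_mul]
  have e1 : (4 - τ ^ 2)⁻¹ * (4 - τ ^ 2) = 1 := inv_mul_cancel₀ h.ne
  linear_combination (c 0) * e1

theorem Plane.be_eq (h : Plane f u v τ) (c : Fin 2 → F) {w : ι → F} (hu : f u w = 0) (hv : f v w = 0) :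
    be f u v τ (c 0 • u + c 1 • v + w) = c 1 := by
  have h1 : be f u v τ (c 0 • u + c 1 • v + w) = (4 - τ ^ 2)⁻¹ * (2 * f v (c 0 • u + c 1 • v + w)
    - τ * f u (c 0 • u + c 1 • v + w)) := rfl
  rw [h1, map_add, map_add, map_smul, map_smul, map_add, map_add, map_smul, map_smul, hu, hv, h.uu, h.uv, h.vu, h.vv]
  simp only [smul_eq_mul]
  have e1 : (4 - τ ^ 2)⁻¹ * (4 - τ ^ 2) = 1 := inv_mul_cancel₀ h.ne
  linear_combination (c 1) * e1

theorem Plane.decomp (h : Plane f u v τ) (w : ι → F) :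
    ∃ (c : Fin 2 → F) (w' : ι → F), f u w' = 0 ∧ f v w' = 0 ∧ w = c 0 • u + c 1 • v + w' := by
  have e1 : (4 - τ ^ 2)⁻¹ * (4 - τ ^ 2) = 1 := inv_mul_cancel₀ h.ne
  refine ⟨![(4 - τ ^ 2)⁻¹ * (2 * f u w - τ * f v w), (4 - τ ^ 2)⁻¹ * (2 * f v w - τ * f u w)],
    w - ((4 - τ ^ 2)⁻¹ * (2 * f u w - τ * f v w)) • u - ((4 - τ ^ 2)⁻¹ * (2 * f v w - τ * f u w)) • v, ?_, ?_, ?_⟩
  · rw [map_sub, map_sub, map_smul, map_smul, h.uu, h.uv]
    simp only [smul_eq_mul]
    linear_combination (-(f u w)) * e1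
  · rw [map_sub, map_sub, map_smul, map_smul, h.vu, h.vv]
    simp only [smul_eq_mul]
    linear_combination (-(f v w)) * e1
  · simp

theorem Plane.rot_eq (h : Plane f u v τ) (c : Fin 2 → F) {w : ι → F} (hu : f u w = 0) (hv : f v w = 0) :
    rot f u v τ (c 0 • u + c 1 • v + w)
      = ((!![0, -1; 1, τ] : Matrix (Fin 2) (Fin 2) F).mulVec c) 0 • u
        + ((!![0, -1; 1, τ] : Matrix (Fin 2) (Fin 2) F).mulVec c) 1 • v + w := by
  rw [rot_apply, h.al_eq c hu hv, h.be_eq c hu hv]
  simp only [Matrix.mulVec, dotProduct, Fin.sum_univ_two, Matrix.of_apply, Matrix.cons_val', Matrix.cons_val_zero,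
    Matrix.cons_val_one, Matrix.cons_val_fin_one]
  module

theorem Plane.rot_pow (h : Plane f u v τ) (n : ℕ) (c : Fin 2 → F) {w : ι → F} (hu : f u w = 0) (hv : f v w = 0) :
    (rot f u v τ ^ n) (c 0 • u + c 1 • v + w)
      = (((!![0, -1; 1, τ] : Matrix (Fin 2) (Fin 2) F) ^ n).mulVec c) 0 • u
        + (((!![0, -1; 1, τ] : Matrix (Fin 2) (Fin 2) F) ^ n).mulVec c) 1 • v + w := by
  induction n with
  | zero => simp
  | succ n ih =>
    rw [pow_succ', Module.End.mul_apply, ih, h.rot_eq _ hu hv, pow_succ', ← Matrix.mulVec_mulVec]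

theorem Plane.rot_form (h : Plane f u v τ) (hsym : ∀ x y, f x y = f y x) (w : ι → F) :
    f (rot f u v τ w) (rot f u v τ w) = f w w := by
  obtain ⟨c, w', hu, hv, rfl⟩ := h.decomp w
  have key : ∀ d : Fin 2 → F, f (d 0 • u + d 1 • v + w') (d 0 • u + d 1 • v + w')
      = 2 * (d 0 ^ 2 + τ * d 0 * d 1 + d 1 ^ 2) + f w' w' := by
    intro d
    have hu' : f w' u = 0 := by rw [hsym, hu]
    have hv' : f w' v = 0 := by rw [hsym, hv]
    simp only [map_add, map_smul, LinearMap.add_apply, LinearMap.smul_apply, smul_eq_mul, h.uu, h.vv, h.uv, h.vu, hu,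
      hv, hu', hv']
    ring
  rw [h.rot_eq c hu hv, key, key]
  simp only [Matrix.mulVec, dotProduct, Fin.sum_univ_two, Matrix.of_apply, Matrix.cons_val', Matrix.cons_val_zero,
    Matrix.cons_val_one, Matrix.cons_val_fin_one]
  ring

end rot

/-- the plane in `V` -/
theorem exists_plane [Finite F] (h2 : (2 : F) ≠ 0) {e : Fin 3 → ι → F} (hF : Frame (polarBilin Q) e) {τ : F}
    (hτ : 4 - τ ^ 2 ≠ 0) : ∃ u v, Plane (polarBilin Q) u v τ := by
  have : Fintype F := Fintype.ofFinite F
  obtain ⟨a, b, hab⟩ := FiniteField.exists_root_sum_quadratic (R := F)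
    (f := Polynomial.C 1 * Polynomial.X ^ 2 + Polynomial.C 0 * Polynomial.X + Polynomial.C (-(1 - τ ^ 2 / 4)))
    (g := Polynomial.C 1 * Polynomial.X ^ 2 + Polynomial.C 0 * Polynomial.X + Polynomial.C 0)
    (Polynomial.degree_quadratic one_ne_zero) (Polynomial.degree_quadratic one_ne_zero) (by
      have hchar : ringChar F ≠ 2 := by
        intro h
        apply h2
        have := ringChar.Nat.cast_ringChar (R := F)
        rw [h] at this
        exact_mod_cast this
      exact FiniteField.odd_card_of_char_ne_two hchar)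
  simp only [Polynomial.eval_add, Polynomial.eval_mul, Polynomial.eval_pow, Polynomial.eval_C, Polynomial.eval_X]
    at hab
  have h4 : (4 : F) ≠ 0 := by
    have : (4 : F) = 2 * 2 := by norm_num
    rw [this]; exact mul_ne_zero h2 h2
  have s0 := hF.self 0
  have s1 := hF.self 1
  have s2 := hF.self 2
  have o01 := hF.orth 0 1 (by decide)
  have o02 := hF.orth 0 2 (by decide)
  have o10 := hF.orth 1 0 (by decide)
  have o12 := hF.orth 1 2 (by decide)
  have o20 := hF.orth 2 0 (by decide)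
  have o21 := hF.orth 2 1 (by decide)
  have hvv : polarBilin Q ((τ / 2) • e 0 + a • e 1 + b • e 2) ((τ / 2) • e 0 + a • e 1 + b • e 2) = 2 := by
    simp only [map_add, map_smul, LinearMap.add_apply, LinearMap.smul_apply, smul_eq_mul, s0, s1, s2, o01, o02, o10,
      o12, o20, o21]
    field_simp at hab ⊢
    linear_combination hab
  refine ⟨e 0, (τ / 2) • e 0 + a • e 1 + b • e 2, s0, hvv, ?_, ?_, hτ⟩
  · simp only [map_add, map_smul, smul_eq_mul, s0, o01, o02]
    field_simp
    ring
  · simp only [map_add, map_smul, LinearMap.add_apply, LinearMap.smul_apply, smul_eq_mul, s0, o10, o20]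
    field_simp
    ring

/-- **An element of order `t` and rank at most two.** -/
theorem exists_prm [Fintype F] {p : ℕ} [CharP F p] (hp : p.Prime) (hQ : GoodQ Q) (h2 : (2 : F) ≠ 0)
    (hc : 4 ≤ Fintype.card ι) {t : ℕ} (ht : t.Prime) (ht2 : t ≠ 2) (htq : t ∣ Fintype.card F ^ 2 - 1) :
    ∃ z : Cfsg.Omega F (⇑Q), orderOf z = t ∧ (inc (⇑Q) z - 1).rank ≤ 2 := by
  obtain ⟨τ, hτ, hA⟩ := exists_tau (F := F) hp ht ht2 htq
  let e0 : Fin 0 → ι → F := fun i => i.elim0
  have he0 : Frame (polarBilin Q) e0 := ⟨fun i => i.elim0, fun i => i.elim0⟩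
  obtain ⟨e, he, -⟩ := exists_frames hQ.nd h2 he0 3 (by rw [Fintype.card_fin]; omega)
  obtain ⟨u, v, hP⟩ := exists_plane h2 he hτ
  set z := rot (polarBilin Q) u v τ with hz
  have hzt : z ^ t = 1 := by
    apply LinearMap.ext
    intro w
    obtain ⟨c, w', hu, hv, rfl⟩ := hP.decomp w
    rw [hz, hP.rot_pow t c hu hv, hA, Matrix.one_mulVec, Module.End.one_apply]
  have htodd : Odd t := ht.odd_of_ne_two ht2
  have hpos := ht.pos
  obtain ⟨A, hAz⟩ := exists_of_iso (⇑Q) z (z ^ (t - 1))
    (by rw [← pow_succ', Nat.sub_add_cancel hpos, hzt])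
    (by rw [← pow_succ, Nat.sub_add_cancel hpos, hzt]) (fun w => by
      have h1 := hP.rot_form polar_symm w
      rw [Cfsg.Agent.H556.Om.polar_self, Cfsg.Agent.H556.Om.polar_self] at h1
      exact mul_left_cancel₀ h2 h1)
  have hrinj := rep_injective (inc'_injective (Q := (⇑Q : (ι → F) → F)))
  have hAt : A ^ t = 1 := by
    apply hrinj
    rw [map_pow, hAz, hzt, map_one]
  have hAm := mem_omega_of_odd hQ htodd hAt
  have hzA : rep (inc (⇑Q)) ⟨A, hAm⟩ = z := hAz
  refine ⟨⟨A, hAm⟩, ?_, ?_⟩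
  · refine orderOf_eq_prime (hp := ⟨ht⟩) (Subtype.ext hAt) ?_
    intro h1
    rw [h1, map_one] at hzA
    have h3 := hP.rot_eq ![1, 0] (w := 0) (map_zero _) (map_zero _)
    rw [← hz, ← hzA] at h3
    simp only [Matrix.mulVec, dotProduct, Fin.sum_univ_two, Matrix.of_apply, Matrix.cons_val', Matrix.cons_val_zero,
      Matrix.cons_val_one, Matrix.cons_val_fin_one, Module.End.one_apply, mul_one, mul_zero, one_smul, zero_smul,
      add_zero, zero_add] at h3
    apply hτ
    have h5 := hP.uv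
    rw [← h3, hP.uu] at h5
    rw [← h5]; ring
  · have h1 : LinearMap.range (inc (⇑Q) ⟨A, hAm⟩ - 1).mulVecLin ≤ Submodule.span F {v - u, τ • v - u - v} := by
      rintro _ ⟨w, rfl⟩
      rw [Matrix.mulVecLin_apply, Matrix.sub_mulVec, Matrix.one_mulVec, ← rep_apply, hzA, hz, rot_apply]
      have h3 : w + al (polarBilin Q) u v τ w • (v - u) + be (polarBilin Q) u v τ w • (τ • v - u - v) - w
          = al (polarBilin Q) u v τ w • (v - u) + be (polarBilin Q) u v τ w • (τ • v - u - v) := by abel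
      rw [h3]
      exact Submodule.add_mem _ (Submodule.smul_mem _ _ (Submodule.subset_span (by simp)))
        (Submodule.smul_mem _ _ (Submodule.subset_span (by simp)))
    exact (Submodule.finrank_mono h1).trans (finrank_pair_le _ _)

end Cfsg.Agent.H558.Orth
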