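import Cfsg.Agent.H558.Orth.Tor
import Cfsg.Agent.H558.Orth.Prm
import Cfsg.Agent.H558.Deg4Data.Final
import Cfsg.Agent.H170.HL.OmRows

/-!
# The rows `POmega` in odd characteristic `p ∉ π`, `2 ∈ π`, `3 ∉ π`
-/

set_option autoImplicit false

namespace Cfsg.Agent.H558.Orth

open Subgroup Cfsg Cfsg.Agent.H988.CPi Cfsg.Agent.H553.ExtRed Cfsg.Agent.H170.HL.OmRow Cfsg.Agent.H558.Deg4Data

universe w

theorem det_eq_one {F : Type} [Field F] {ι : Type} [Fintype ι] [DecidableEq ι] {Q : QuadraticForm F (ι → F)}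
    (hQ : GoodQ Q) {z : Cfsg.Omega F (⇑Q)} (hz : Odd (orderOf z)) : (inc (⇑Q) z).det = 1 := by
  have hI := isoRep hQ
  have h1 := congrArg Matrix.det (hI.inv z)
  rw [Matrix.det_mul, Matrix.det_mul, Matrix.det_transpose] at h1
  have h2 : (inc (⇑Q) z).det ^ 2 = 1 := by
    have h3 : ((inc (⇑Q) z).det ^ 2) * (gram Q).det = 1 * (gram Q).det := by
      rw [one_mul]
      linear_combination h1
    exact mul_right_cancel₀ hI.nd h3
  have h4 : (inc (⇑Q) z).det ^ orderOf z = 1 := by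
    rw [← Matrix.det_pow, ← map_pow, pow_orderOf_eq_one, map_one, Matrix.det_one]
  have h5 := Nat.dvd_gcd (orderOf_dvd_of_pow_eq_one h2) (orderOf_dvd_of_pow_eq_one h4)
  rw [Nat.Coprime.gcd_eq_one (Nat.coprime_two_left.2 hz), Nat.dvd_one] at h5
  exact orderOf_eq_one_iff.1 h5

theorem good_omega {S : Type w} [Group S] [Finite S] [IsSimpleGroup S] (hna : ¬ IsMulCommutative S) {π : Set ℕ}
    (h2π : 2 ∈ π) (h3π : 3 ∉ π) {F : Type} [Field F] [Fintype F] {p : ℕ} [CharP F p] (hp : p.Prime) (hpπ : p ∉ π)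
    {ι : Type} [Fintype ι] [DecidableEq ι] {Q : QuadraticForm F (ι → F)} (hQ : GoodQ Q) (hc : 4 ≤ Fintype.card ι)
    {Q' : (ι → F) → F} (hQQ : ⇑Q = Q') (e : S ≃* Cfsg.POmega F Q') (H : Subgroup S) (hH : IsPiHall π H) : Good π S := by
  subst hQQ
  have hfin : Finite (Cfsg.Omega F (⇑Q)) := inferInstance
  have hp2 : p ≠ 2 := fun h => hpπ (h ▸ h2π)
  have h2 : (2 : F) ≠ 0 := two_ne_zero_of hp hp2
  let f : Cfsg.Omega F (⇑Q) →* S :=
    (e.symm : Cfsg.POmega F (⇑Q) →* S).comp (QuotientGroup.mk' (Subgroup.center (Cfsg.Omega F (⇑Q))))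
  have hf : Function.Surjective f := e.symm.surjective.comp (QuotientGroup.mk'_surjective _)
  have hker : ∀ z ∈ f.ker, z ∈ Subgroup.center (Cfsg.Omega F (⇑Q)) := by
    intro z hz
    rw [MonoidHom.mem_ker] at hz
    have h3 : (QuotientGroup.mk' (Subgroup.center (Cfsg.Omega F (⇑Q)))) z = 1 := by
      have h4 := congrArg e hz
      rw [map_one] at h4
      rw [← h4]
      exact (e.apply_symm_apply _).symm
    exact (QuotientGroup.eq_one_iff z).1 h3
  have hpm : ∀ z ∈ f.ker, inc (⇑Q) z = 1 ∨ inc (⇑Q) z = -1 := fun z hz =>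
    (Cfsg.Agent.LieClassical.OmegaCenter.mem_center_omega_iff Q hQ.nd hQ.card hQ.sing z).mp (hker z hz)
  by_cases ht : ∃ t : ℕ, t.Prime ∧ t ∈ π ∧ t ≠ 2 ∧ t ∣ Fintype.card F ^ 2 - 1
  · obtain ⟨t, htp, htπ, ht2, htd⟩ := ht
    have h5 : 5 ≤ t := by
      have h4 : t ≠ 3 := fun h => h3π (h ▸ htπ)
      have h5 : t ≠ 4 := by rintro rfl; exact absurd htp (by norm_num)
      have := htp.two_le
      omega
    obtain ⟨z, hz, hzr⟩ := exists_prm hp hQ h2 hc htp ht2 htd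
    have hks : ∀ z ∈ f.ker, ∃ c : F, inc (⇑Q) z = c • 1 := by
      intro z hz
      rcases hpm z hz with h | h
      · exact ⟨1, by rw [h, one_smul]⟩
      · exact ⟨-1, by rw [h, neg_one_smul]⟩
    exact Cfsg.Agent.H574.Deg4.case_one hp (inc (⇑Q)) inc_injective hna f hf hks h3π hpπ htp htπ h5 hz hzr
      (Cfsg.Agent.H574.Deg4.map_ne_one (inc (⇑Q)) inc_injective f hks htp h5 hz hzr
        (det_eq_one hQ (by rw [hz]; exact htp.odd_of_ne_two ht2))) H hH
  · obtain ⟨k, E, x, y, a, b, C⟩ := exists_cfg hQ h2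
    have hG := C.gData hQ h2 (Fintype.card F)
    have hO := hG.down (f := f) (fun r hr => ⟨hr.rr, by have := hr.r5; omega⟩) hf
      (fun z hz g => (Subgroup.mem_center_iff.1 (hker z hz) g).symm) (fun z hz => by
        apply inc_injective
        rw [map_mul, map_one]
        rcases hpm z hz with h | h
        · rw [h, one_mul]
        · rw [h, neg_mul_neg, one_mul])
    refine good_of_oData hna h2π h3π hO (fun r hr hr2 hrπ => ?_) H hH
    refine ⟨Nat.card_eq_fintype_card, h2, hr, ?_, ?_, fun h => ht ⟨r, hr, hrπ, hr2, h⟩⟩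
    · have h4 : r ≠ 3 := fun h => h3π (h ▸ hrπ)
      have h5 : r ≠ 4 := by rintro rfl; exact absurd hr (by norm_num)
      have := hr.two_le
      omega
    · intro h0
      rw [CharP.cast_eq_zero_iff F p] at h0
      exact hpπ (((Nat.prime_dvd_prime_iff_eq hp hr).1 h0) ▸ hrπ)

variable {π : Set ℕ} {S : Type w} [Group S] [Finite S] [IsSimpleGroup S]

theorem rw_oOdd (hna : ¬ IsMulCommutative S) (hE : IsEPiGroup π S) (h2 : 2 ∈ π) (h3 : 3 ∉ π) (p : ℕ) (hp : p.Prime)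
    (hpπ : p ∉ π) (h : IsPOmegaOddChar p S) : Rw π S := by
  obtain ⟨F, _, _, hchar, m, hm, hoddF, ⟨e⟩⟩ := h
  have h2F : (2 : F) ≠ 0 := two_ne_zero_of hp (fun h => hpπ (h ▸ h2))
  exact good_or_pi hE h2 (two_dvd_card hna) fun H hH _ _ =>
    good_omega hna h2 h3 hp hpπ (goodQ_odd (by omega) h2F) (by simp; omega)
      (Cfsg.Agent.LieClassical.OrthForms.coe_oddForm m F) e H hH

theorem rw_oPlus (hna : ¬ IsMulCommutative S) (hE : IsEPiGroup π S) (h2 : 2 ∈ π) (h3 : 3 ∉ π) (p : ℕ) (hp : p.Prime)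
    (hpπ : p ∉ π) (h : IsPOmegaPlusChar p S) : Rw π S := by
  obtain ⟨F, _, _, hchar, m, hm, ⟨e⟩⟩ := h
  exact good_or_pi hE h2 (two_dvd_card hna) fun H hH _ _ =>
    good_omega hna h2 h3 hp hpπ (goodQ_plus (by omega)) (by simp; omega)
      (Cfsg.Agent.LieClassical.OrthForms.coe_plusForm m F) e H hH

theorem rw_oMinus (hna : ¬ IsMulCommutative S) (hE : IsEPiGroup π S) (h2 : 2 ∈ π) (h3 : 3 ∉ π) (p : ℕ) (hp : p.Prime)
    (hpπ : p ∉ π) (h : IsPOmegaMinusChar p S) : Rw π S := by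
  obtain ⟨F, _, _, hchar, m, a, b, hm, hab, ⟨e⟩⟩ := h
  exact good_or_pi hE h2 (two_dvd_card hna) fun H hH _ _ =>
    good_omega hna h2 h3 hp hpπ (goodQ_minus (by omega) a b hab) (by simp; omega)
      (Cfsg.Agent.LieClassical.OrthForms.coe_minusForm (m - 1) F a b) e H hH

end Cfsg.Agent.H558.Orth
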