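import Cfsg.Agent.H558.Deg4Data.CompQuat
import Cfsg.Agent.Transfer.FrobeniusFusion
import Cfsg.Agent.H553.GoodStell

/-!
# The group theoretic part for the orthogonal groups
-/

set_option autoImplicit false

namespace Cfsg.Agent.H558.Orth

open Subgroup Cfsg Cfsg.Agent.H167.OP Cfsg.Agent.SignalizersComponents Cfsg.Agent.H558.Deg4Data
open Cfsg.Agent.H988.CPi Cfsg.Agent.H553.ExtRed
open scoped Pointwise

/-- quaternion pairs, and two commuting involutions -/
structure OData {S : Type*} [Group S] (P : ℕ → Prop) {κ : Type*} (x y : κ → S) (a b : S) : Prop where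
  four : ∀ i, x i ^ 4 = 1
  sq : ∀ i, y i * y i = x i * x i
  inv : ∀ i, y i * x i * (y i)⁻¹ = (x i)⁻¹
  aa : a * a = 1
  bb : b * b = 1
  ab : a * b = b * a
  two : IsPGroup 2 (closure (Set.range x ∪ Set.range y ∪ {a, b}))
  cx : ∀ i r, P r → CenR r (x i)
  cy : ∀ i r, P r → CenR r (y i)
  tor : ∀ r, P r → ∀ h : S, orderOf h = r → (∀ i, h * x i = x i * h) →
    (h * a = a * h ∨ h * b = b * h ∨ h * (a * b) = a * b * h) → False
  frob : ∀ r, P r → ∀ h : S, (∃ k, h ^ r ^ k = 1) → (∀ i, h * x i = x i * h) → ∀ D : Subgroup S, IsPGroup 2 D →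
    (∀ d ∈ D, ∀ i, d * x i = x i * d) → Nrm h D → Cen h D

theorem OData.restrict {S : Type*} [Group S] {P : ℕ → Prop} {κ : Type*} {x y : κ → S} {a b : S} (h : OData P x y a b)
    (H : Subgroup S) (hx : ∀ i, x i ∈ H) (hy : ∀ i, y i ∈ H) (ha : a ∈ H) (hb : b ∈ H) :
    OData P (fun i => (⟨x i, hx i⟩ : H)) (fun i => (⟨y i, hy i⟩ : H)) (⟨a, ha⟩ : H) (⟨b, hb⟩ : H) := by
  refine ⟨fun i => Subtype.ext (h.four i), fun i => Subtype.ext (h.sq i), fun i => Subtype.ext (h.inv i),
    Subtype.ext h.aa, Subtype.ext h.bb, Subtype.ext h.ab, ?_,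
    fun i r hr => (h.cx i r hr).of_subgroup, fun i r hr => (h.cy i r hr).of_subgroup, fun r hr c ho hcon hor => ?_,
    fun r hr c hc hcon D hD hDx hn => ?_⟩
  · have h1 : closure (Set.range (fun i => (⟨x i, hx i⟩ : H)) ∪ Set.range (fun i => (⟨y i, hy i⟩ : H)) ∪
        {(⟨a, ha⟩ : H), (⟨b, hb⟩ : H)}) ≤ (closure (Set.range x ∪ Set.range y ∪ {a, b})).comap H.subtype := by
      rw [closure_le]
      rintro c ((⟨i, rfl⟩ | ⟨i, rfl⟩) | (rfl | rfl))
      · exact subset_closure (Or.inl (Or.inl ⟨i, rfl⟩))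
      · exact subset_closure (Or.inl (Or.inr ⟨i, rfl⟩))
      · exact subset_closure (Or.inr (Or.inl rfl))
      · exact subset_closure (Or.inr (Or.inr rfl))
    exact (h.two.comap_of_injective H.subtype H.subtype_injective).to_le h1
  · refine h.tor r hr c (by rw [orderOf_coe]; exact ho) (fun i => congrArg Subtype.val (hcon i)) ?_
    rcases hor with h1 | h1 | h1
    · exact Or.inl (congrArg Subtype.val h1)
    · exact Or.inr (Or.inl (congrArg Subtype.val h1))
    · exact Or.inr (Or.inr (congrArg Subtype.val h1))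
  · obtain ⟨k, hk⟩ := hc
    have h1 := h.frob r hr c ⟨k, congrArg Subtype.val hk⟩ (fun i => congrArg Subtype.val (hcon i)) (D.map H.subtype)
      (hD.map _) (by
        rintro _ ⟨d, hd, rfl⟩ i
        exact congrArg Subtype.val (hDx d hd i)) (by
        rintro _ ⟨d, hd, rfl⟩
        exact ⟨_, hn d hd, rfl⟩)
    intro d hd
    exact Subtype.ext (h1 _ ⟨d, hd, rfl⟩)

/-- a group with a normal 2-complement is solvable -/
theorem isSolvable_of_complement {G : Type*} [Group G] [Finite G] (h : Cfsg.HasNormalPComplement 2 G) :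
    Group.IsSolvable G := by
  have : Fact (Nat.Prime 2) := ⟨Nat.prime_two⟩
  obtain ⟨P, N, hN, hc⟩ := h
  have h1 : Nat.card N * Nat.card (P : Subgroup G) = Nat.card G := hc.card_mul_card
  have h2 : Nat.card (P : Subgroup G) * (P : Subgroup G).index = Nat.card G :=
    card_mul_index _
  have h3 : Nat.card N = (P : Subgroup G).index := by
    have h4 : 0 < Nat.card (P : Subgroup G) := Nat.card_pos
    apply Nat.eq_of_mul_eq_mul_right h4
    rw [h1, ← h2, mul_comm]
  have hodd : Odd (Nat.card N) := by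
    rw [h3, ← Nat.not_even_iff_odd, even_iff_two_dvd]
    exact P.not_dvd_index
  have h4 : Group.IsSolvable N := Cfsg.Agent.S0205.result hodd
  have h5 : N.index = Nat.card (P : Subgroup G) := by
    have h6 : Nat.card N * N.index = Nat.card G := card_mul_index _
    have h7 : 0 < Nat.card N := Nat.card_pos
    apply Nat.eq_of_mul_eq_mul_left h7
    rw [h6, h1]
  have h6 : IsPGroup 2 (G ⧸ N) := by
    obtain ⟨n, hn⟩ := IsPGroup.iff_card.1 P.isPGroup'
    exact IsPGroup.of_card (n := n) (by rw [← hn]; exact h5)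
  have h7 : Group.IsNilpotent (G ⧸ N) := h6.isNilpotent
  have h8 : Group.IsSolvable (G ⧸ N) := inferInstance
  exact (Group.isSolvable_iff_subgroup_quotient N).2 ⟨h4, h8⟩

/-- a power of prime power order outside a subgroup -/
theorem exists_rpower_not_mem {G : Type*} [Group G] [Finite G] {K : Subgroup G} {g : G} (hg : g ∉ K) :
    ∃ r : ℕ, r.Prime ∧ r ∣ orderOf g ∧ ∃ m : ℕ, g ^ m ∉ K ∧ ∃ k, (g ^ m) ^ r ^ k = 1 := by
  let A : AddSubgroup ℤ :=
    { carrier := {m | g ^ m ∈ K}
      zero_mem' := by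
        show g ^ (0 : ℤ) ∈ K
        rw [zpow_zero]; exact K.one_mem
      add_mem' := fun {m n} hm hn => by
        show g ^ (m + n) ∈ K
        rw [zpow_add]; exact K.mul_mem hm hn
      neg_mem' := fun {m} hm => by
        show g ^ (-m) ∈ K
        rw [zpow_neg]; exact K.inv_mem hm }
  obtain ⟨d, hd⟩ := Int.subgroup_cyclic A
  have hmem : ∀ m : ℤ, g ^ m ∈ K ↔ d ∣ m := by
    intro m
    have h1 : g ^ m ∈ K ↔ m ∈ A := Iff.rfl
    rw [h1, hd, AddSubgroup.mem_closure_singleton]
    constructor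
    · rintro ⟨z, rfl⟩
      exact ⟨z, by rw [smul_eq_mul, mul_comm]⟩
    · rintro ⟨z, rfl⟩
      exact ⟨z, by rw [smul_eq_mul, mul_comm]⟩
  have hd1 : d.natAbs ≠ 1 := by
    intro h1
    apply hg
    have h2 : g ^ (1 : ℤ) ∈ K := (hmem 1).2 (Int.natAbs_dvd.1 (by rw [h1]; exact dvd_refl _))
    rwa [zpow_one] at h2
  have hdn : d.natAbs ∣ orderOf g := by
    have h2 : g ^ ((orderOf g : ℕ) : ℤ) ∈ K := by
      rw [zpow_natCast, pow_orderOf_eq_one]; exact K.one_mem
    exact Int.natCast_dvd_natCast.1 (Int.natAbs_dvd.2 ((hmem _).1 h2))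
  obtain ⟨r, hr, hrd⟩ := Nat.exists_prime_and_dvd hd1
  have hn0 : orderOf g ≠ 0 := (orderOf_pos g).ne'
  refine ⟨r, hr, hrd.trans hdn, orderOf g / r ^ (orderOf g).factorization r, ?_, (orderOf g).factorization r, ?_⟩
  · intro h1
    have h2 : d ∣ ((orderOf g / r ^ (orderOf g).factorization r : ℕ) : ℤ) := (hmem _).1 (by
      rw [zpow_natCast]; exact h1)
    have h3 : d.natAbs ∣ orderOf g / r ^ (orderOf g).factorization r := Int.natCast_dvd_natCast.1 (Int.natAbs_dvd.2 h2)
    exact Nat.not_dvd_ordCompl hr hn0 (hrd.trans h3)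
  · rw [← pow_mul, Nat.div_mul_cancel (Nat.ordProj_dvd _ _), pow_orderOf_eq_one]

/-- **The constrained conclusion.** -/
theorem centralizer_pCore_le {H : Type*} [Group H] [Finite H] (h3 : ¬ 3 ∣ Nat.card H) {P : ℕ → Prop} {κ : Type*}
    {x y : κ → H} {a b : H} (h : OData P x y a b) (hP : ∀ r : ℕ, r.Prime → r ≠ 2 → r ∣ Nat.card H → P r) :
    centralizer (Cfsg.pCore 2 H : Set H) ≤ Cfsg.pCore 2 H := by
  have hF : Fact (Nat.Prime 2) := ⟨Nat.prime_two⟩
  have hy4 : ∀ i, y i ^ 4 = 1 := by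
    intro i
    have h1 : y i ^ 4 = (y i * y i) * (y i * y i) := by simp only [pow_succ, pow_zero, one_mul, mul_assoc]
    rw [h1, h.sq, ← h.four i]
    simp only [pow_succ, pow_zero, one_mul, mul_assoc]
  -- no normal `r`-subgroup
  have hO : pPrimeCore 2 H = ⊥ := by
    by_contra hO
    have hcop := Lib.Cores.pPrimeCore_coprime (G := H) 2
    have hnt : Nontrivial ↥(pPrimeCore 2 H) := by
      rw [← not_subsingleton_iff_nontrivial]
      intro h
      exact hO (Subgroup.eq_bot_of_subsingleton _)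
    have hsolN : Group.IsSolvable ↥(pPrimeCore 2 H) := by
      apply Cfsg.Agent.S0205.result
      exact (Nat.coprime_comm.mp hcop).odd_of_left
    obtain ⟨t, ht, N, hNc, -, hNp, hN'⟩ :=
      Lib.SolvableMinNormal.exists_characteristic_pgroup (G := ↥(pPrimeCore 2 H))
    have hft : Fact t.Prime := ⟨ht⟩
    have hMn : (N.map (pPrimeCore 2 H).subtype).Normal := by
      have := hNc
      have h3 : (pPrimeCore 2 H).Normal := Lib.Cores.pPrimeCore_normal 2
      exact ConjAct.normal_of_characteristic_of_normal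
    set R : Subgroup H := N.map (pPrimeCore 2 H).subtype with hR
    have hRp : IsPGroup t R := hNp.map _
    have hRne : R ≠ ⊥ := by
      intro h
      rw [hR, map_eq_bot_iff_of_injective _ (subtype_injective _)] at h
      exact hN' h
    have htR : t ∣ Nat.card R := by
      obtain ⟨k, hk⟩ := hRp.exists_card_eq
      rw [hk]
      rcases Nat.eq_zero_or_pos k with h | h
      · exfalso
        rw [h, pow_zero] at hk
        exact hRne (card_eq_one.1 hk)
      · exact dvd_pow_self t h.ne'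
    have ht2 : t ≠ 2 := by
      rintro rfl
      have h1 : Nat.card R ∣ Nat.card ↥(pPrimeCore 2 H) := card_dvd_of_le (map_subtype_le _)
      have h2 := Nat.dvd_gcd (htR.trans h1) (dvd_refl 2)
      rw [hcop] at h2
      exact absurd h2 (by norm_num)
    have htH : t ∣ Nat.card H := htR.trans (card_subgroup_dvd_card R)
    have hPt := hP t ht ht2 htH
    -- a central element of order `t`
    have hRnt : Nontrivial R := (Subgroup.nontrivial_iff_ne_bot R).2 hRne
    have hZnt := hRp.center_nontrivial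
    have htZ : t ∣ Nat.card (center R) := by
      obtain ⟨k, hk⟩ := (hRp.to_subgroup (center R)).exists_card_eq
      rw [hk]
      rcases Nat.eq_zero_or_pos k with h | h
      · exfalso
        rw [h, pow_zero] at hk
        exact (Subgroup.nontrivial_iff_ne_bot _).1 hZnt (card_eq_one.1 hk)
      · exact dvd_pow_self t h.ne'
    obtain ⟨z0, hz0⟩ := exists_prime_orderOf_dvd_card' t htZ
    set z : H := ((z0 : R) : H) with hz
    have hzR : z ∈ R := z0.1.2
    have hzo : orderOf z = t := by rw [hz, orderOf_coe, orderOf_coe, hz0]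
    have hzc : ∀ c ∈ R, c * z = z * c := fun c hc =>
      congrArg Subtype.val (mem_center_iff.1 z0.2 ⟨c, hc⟩)
    have hzt : z ^ t = 1 := by rw [← hzo]; exact pow_orderOf_eq_one z
    have hcR : ∀ i, ∀ c ∈ R, c * x i = x i * c := by
      intro i c hc
      have hnrm : Nrm (x i) R := fun a ha => hMn.conj_mem a ha (x i)
      exact (h.cx i t hPt R hRp hnrm c hc).symm
    have hinv : ∀ s : H, s * s = 1 → (∀ c : H, c * s = s * c →
        (c * a = a * c ∨ c * b = b * c ∨ c * (a * b) = a * b * c)) → s * z * s⁻¹ = z⁻¹ := by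
      intro s hs hor
      have hsR : s * z * s⁻¹ ∈ R := hMn.conj_mem z hzR s
      set z' := s * z * s⁻¹ with hz'
      have hcom : z' * z = z * z' := hzc z' hsR
      have hs2 : s * z' * s⁻¹ = z := by
        have h1 : s * z' * s⁻¹ = (s * s) * z * (s * s)⁻¹ := by rw [hz']; group
        rw [h1, hs]; group
      have hw : s * (z * z') * s⁻¹ = z * z' := by
        have h1 : s * (z * z') * s⁻¹ = z' * (s * z' * s⁻¹) := by rw [hz']; group
        rw [h1, hs2, hcom]
      by_contra hne
      have hw1 : z * z' ≠ 1 := fun h1 => hne (eq_inv_of_mul_eq_one_right h1)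
      have hz't : z' ^ t = 1 := by rw [hz', conj_pow, hzt, mul_one, mul_inv_cancel]
      have hwt : (z * z') ^ t = 1 := by
        rw [(show Commute z z' from hcom.symm).mul_pow, hzt, hz't, mul_one]
      refine h.tor t hPt (z * z') (orderOf_eq_prime hwt hw1) (fun i => hcR i _ (R.mul_mem hzR hsR)) (hor _ ?_)
      rw [mul_inv_eq_iff_eq_mul] at hw
      exact hw.symm
    have h1 := hinv a h.aa fun c hc => Or.inl hc
    have h2 := hinv b h.bb fun c hc => Or.inr (Or.inl hc)
    refine h.tor t hPt z hzo (fun i => hcR i z hzR) (Or.inr (Or.inr ?_))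
    have h4 : a * b * z * (a * b)⁻¹ = z := by
      have h5 : a * b * z * (a * b)⁻¹ = a * (b * z * b⁻¹) * a⁻¹ := by group
      have h6 : a * z⁻¹ * a⁻¹ = (a * z * a⁻¹)⁻¹ := by group
      rw [h5, h2, h6, h1, inv_inv]
    rw [mul_inv_eq_iff_eq_mul] at h4
    exact h4.symm
  have hfit : fittingSubgroup H = pCore 2 H := PConstrained.fittingSubgroup_eq_pCore_of_pPrimeCore_eq_bot 2 hO
  suffices hlay : layer H = ⊥ by
    apply CharP.centralizer_pCore_le_of_genFitting_eq
    rw [generalizedFittingSubgroup, hlay, bot_sup_eq, hfit]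
  by_contra hne
  rw [ComponentExists.layer_eq_bot_iff] at hne
  push Not at hne
  obtain ⟨Y, hY⟩ := hne
  have hcx : ∀ i, ∀ r : ℕ, r.Prime → r ≠ 2 → r ∣ Nat.card H → CenR r (x i) := fun i r hr hr2 hrd =>
    h.cx i r (hP r hr hr2 hrd)
  have hcy : ∀ i, ∀ r : ℕ, r.Prime → r ≠ 2 → r ∣ Nat.card H → CenR r (y i) := fun i r hr hr2 hrd =>
    h.cy i r (hP r hr hr2 hrd)
  have hcomm : ∀ i, ∀ a ∈ Y, x i * a = a * x i := by
    intro i
    have hnx := mem_normalizer_component hY (h.four i) (hcx i)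
    have hny := mem_normalizer_component hY (hy4 i) (hcy i)
    exact commutes_of_sq hY.2 hnx (h.four i) (hcx i) (sq_commutes h3 hY.2 hnx hny (h.four i) (h.sq i) (h.inv i))
  -- `Y` has a normal 2-complement
  apply Components.quasisimple_not_isSolvable hY.2
  apply isSolvable_of_complement
  rw [Cfsg.Agent.Transfer.FrobeniusFusion.hasNormalPComplement_iff_localCondition]
  intro D hD g hg hgc
  by_contra hgn
  obtain ⟨r, hr, hrg, m, hm, k, hk⟩ := exists_rpower_not_mem hgn
  apply hm
  have hr2 : r ≠ 2 := by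
    rintro rfl
    have h1 := Nat.dvd_gcd hrg (dvd_refl 2)
    rw [hgc] at h1
    exact absurd h1 (by norm_num)
  have hrY : r ∣ Nat.card H := (hrg.trans (orderOf_dvd_natCard g)).trans (card_subgroup_dvd_card Y)
  have hgm : g ^ m ∈ normalizer (D : Set Y) := pow_mem hg m
  have h1 := h.frob r (hP r hr hr2 hrY) ((g ^ m : Y) : H) ⟨k, congrArg Subtype.val hk⟩
    (fun i => (hcomm i _ (g ^ m : Y).2).symm) (D.map Y.subtype) (hD.map _) (by
      rintro _ ⟨d, hd, rfl⟩ i
      exact (hcomm i _ d.2).symm) (by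
      rintro _ ⟨d, hd, rfl⟩
      exact ⟨_, (mem_normalizer_iff.1 hgm d).1 hd, rfl⟩)
  rw [mem_centralizer_iff]
  intro d hd
  exact Subtype.ext (h1 _ ⟨d, hd, rfl⟩).symm

/-- the data in a Hall subgroup: `Good` -/
theorem good_of_oData {S : Type*} [Group S] [Finite S] [IsSimpleGroup S] (hna : ¬ IsMulCommutative S) {π : Set ℕ}
    (h2 : 2 ∈ π) (h3 : 3 ∉ π) {P : ℕ → Prop} {κ : Type*} {x y : κ → S} {a b : S} (h : OData P x y a b)
    (hP : ∀ r : ℕ, r.Prime → r ≠ 2 → r ∈ π → P r) (H : Subgroup S) (hH : IsPiHall π H) : Good π S := by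
  have hF : Fact (Nat.Prime 2) := ⟨Nat.prime_two⟩
  obtain ⟨Q, hQ⟩ := h.two.exists_le_sylow
  obtain ⟨T⟩ : Nonempty (Sylow 2 H) := inferInstance
  have h1 : IsPGroup 2 ((T : Subgroup H).map H.subtype) := T.2.map _
  have hi : ¬ 2 ∣ ((T : Subgroup H).map H.subtype).index := by
    have h3 : ((T : Subgroup H).map H.subtype).index = (T : Subgroup H).index * H.index := by
      have := index_map (T : Subgroup H) H.subtype
      rwa [H.ker_subtype, sup_bot_eq, range_subtype] at this
    rw [h3, Nat.prime_two.dvd_mul, not_or]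
    exact ⟨T.not_dvd_index, hH.2 2 Nat.prime_two h2⟩
  let R : Sylow 2 S := h1.toSylow hi
  have hRH : (R : Subgroup S) ≤ H := by
    show (T : Subgroup H).map H.subtype ≤ H
    exact map_subtype_le _
  obtain ⟨g, hg⟩ := MulAction.exists_smul_eq S R Q
  have hK : IsPiHall π (MulAut.conj g • H) := isPiHall_aut (MulAut.conj g) hH
  have hQK : (Q : Subgroup S) ≤ MulAut.conj g • H := by
    rw [← hg, Sylow.coe_subgroup_smul]
    exact smul_mono_right _ hRH
  have hmem : ∀ c ∈ (Set.range x ∪ Set.range y ∪ {a, b} : Set S), c ∈ MulAut.conj g • H := fun c hc =>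
    hQK (hQ (subset_closure hc))
  have h3K : ¬ 3 ∣ Nat.card (MulAut.conj g • H : Subgroup S) := fun h => h3 (hK.1 3 Nat.prime_three h)
  refine good_of_stellmacher hna h2 _ hK h3K (centralizer_pCore_le h3K (h.restrict _
    (fun i => hmem _ (Or.inl (Or.inl ⟨i, rfl⟩))) (fun i => hmem _ (Or.inl (Or.inr ⟨i, rfl⟩)))
    (hmem _ (Or.inr (Or.inl rfl))) (hmem _ (Or.inr (Or.inr rfl)))) fun r hr hr2 hrd => hP r hr hr2 (hK.1 r hr hrd))

end Cfsg.Agent.H558.Orth
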