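import Cfsg.Agent.H558.Orth.Abs

/-!
# The data in a central extension
-/

set_option autoImplicit false

namespace Cfsg.Agent.H558.Orth

open Subgroup Cfsg.Agent.H167.OP Cfsg.Agent.H558.Deg4Data

/-- the data in the linear group -/
structure GData {G : Type*} [Group G] (P : ℕ → Prop) {κ : Type*} (x y : κ → G) (a b : G) : Prop where
  four : ∀ i, x i ^ 4 = 1
  sq : ∀ i, y i * y i = x i * x i
  inv : ∀ i, y i * x i * (y i)⁻¹ = (x i)⁻¹
  aa : a * a = 1
  bb : b * b = 1
  ab : a * b = b * a
  pairs : ∀ i j, i ≠ j → Commute (x i) (x j) ∧ Commute (x i) (y j) ∧ Commute (y i) (y j)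
  ca : ∀ i, Commute a (x i) ∧ Commute a (y i)
  cb : ∀ i, Commute b (x i) ∧ Commute b (y i)
  cx : ∀ i r, P r → CenR r (x i)
  cy : ∀ i r, P r → CenR r (y i)
  tor : ∀ r, P r → ∀ h : G, (∃ k, h ^ r ^ k = 1) → (∀ i, h * x i = x i * h) →
    (h * a = a * h ∨ h * b = b * h ∨ h * (a * b) = a * b * h) → h = 1
  frob : ∀ r, P r → ∀ h : G, (∃ k, h ^ r ^ k = 1) → (∀ i, h * x i = x i * h) → ∀ D : Subgroup G, IsPGroup 2 D →
    (∀ d ∈ D, ∀ i, d * (x i * x i) = x i * x i * d) → Nrm h D → Cen h D

theorem isPGroup_pairs {G : Type*} [Group G] {κ : Type*} [Finite κ] {x y : κ → G} {a b : G} (h4 : ∀ i, x i ^ 4 = 1)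
    (hsq : ∀ i, y i * y i = x i * x i) (hinv : ∀ i, y i * x i * (y i)⁻¹ = (x i)⁻¹)
    (hc : ∀ i j, i ≠ j → Commute (x i) (x j) ∧ Commute (x i) (y j) ∧ Commute (y i) (y j))
    (haa : a * a = 1) (hbb : b * b = 1) (hab : a * b = b * a)
    (hca : ∀ i, Commute a (x i) ∧ Commute a (y i)) (hcb : ∀ i, Commute b (x i) ∧ Commute b (y i)) :
    IsPGroup 2 (closure (Set.range x ∪ Set.range y ∪ {a, b})) := by
  classical
  have := Fintype.ofFinite κ
  let Q : κ → Subgroup G := fun i => closure {x i, y i}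
  have hQ : ∀ i, IsPGroup 2 (Q i) := fun i => isPGroup_pair (h4 i) (hsq i) (hinv i)
  have gen : ∀ s t : Set G, (∀ c ∈ s, ∀ d ∈ t, c * d = d * c) → closure s ≤ centralizer (closure t : Set G) := by
    intro s t key
    rw [closure_le]
    intro a ha
    rw [SetLike.mem_coe, mem_centralizer_iff]
    intro b hb
    have h3 : closure t ≤ centralizer {a} := by
      rw [closure_le]
      intro b hb
      rw [SetLike.mem_coe, mem_centralizer_singleton_iff]
      exact (key a ha b hb).symm
    exact (mem_centralizer_singleton_iff.1 (h3 hb))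
  have hQc : ∀ i j, i ≠ j → Q i ≤ centralizer (Q j : Set G) := by
    intro i j hij
    apply gen
    have h1 := hc i j hij
    have h2 := hc j i hij.symm
    rintro a (rfl | rfl) b (rfl | rfl)
    · exact h1.1
    · exact h1.2.1
    · exact h2.2.1.symm
    · exact h1.2.2
  have key : ∀ s : Finset κ, IsPGroup 2 (⨆ i ∈ s, Q i : Subgroup G) := by
    intro s
    induction s using Finset.induction with
    | empty =>
      rw [show (⨆ i ∈ (∅ : Finset κ), Q i) = ⊥ by simp]
      exact IsPGroup.of_bot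
    | insert a s ha ih =>
      rw [Finset.iSup_insert]
      refine IsPGroup.to_sup_of_normal_left' (hQ a) ih ?_
      refine (iSup₂_le fun i hi => ?_).trans (centralizer_le_normalizer _)
      exact hQc i a (fun h => ha (h ▸ hi))
  have hAB : IsPGroup 2 (closure ({a, b} : Set G)) := by
    refine isPGroup_closure_comm ?_ ?_
    · rintro c (rfl | rfl) d (rfl | rfl)
      · rfl
      · exact hab
      · exact hab.symm
      · rfl
    · rintro c (rfl | rfl)
      · exact ⟨1, by rw [pow_one, pow_two, haa]⟩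
      · exact ⟨1, by rw [pow_one, pow_two, hbb]⟩
  have h5 : IsPGroup 2 ((⨆ i ∈ (Finset.univ : Finset κ), Q i) ⊔ closure ({a, b} : Set G) : Subgroup G) := by
    rw [sup_comm]
    refine IsPGroup.to_sup_of_normal_left' hAB (key Finset.univ) ?_
    refine (iSup₂_le fun i _ => ?_).trans (centralizer_le_normalizer _)
    apply gen
    rintro c (rfl | rfl) d (rfl | rfl)
    · exact (hca i).1.symm
    · exact (hcb i).1.symm
    · exact (hca i).2.symm
    · exact (hcb i).2.symm
  refine h5.to_le ?_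
  rw [closure_le]
  rintro c ((⟨i, rfl⟩ | ⟨i, rfl⟩) | hc)
  · exact mem_sup_left (mem_iSup_of_mem i (mem_iSup_of_mem (Finset.mem_univ i) (subset_closure (by simp))))
  · exact mem_sup_left (mem_iSup_of_mem i (mem_iSup_of_mem (Finset.mem_univ i) (subset_closure (by simp))))
  · exact mem_sup_right (subset_closure hc)

theorem GData.down {G S : Type*} [Group G] [Group S] [Finite G] {P : ℕ → Prop} {κ : Type*} [Finite κ] {x y : κ → G}
    {a b : G} (h : GData P x y a b) (hP : ∀ r, P r → r.Prime ∧ r ≠ 2) {f : G →* S} (hf : Function.Surjective f)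
    (hz : ∀ z ∈ f.ker, ∀ g, z * g = g * z) (hz2 : ∀ z ∈ f.ker, z * z = 1) :
    OData P (fun i => f (x i)) (fun i => f (y i)) (f a) (f b) := by
  -- lifts of commuting elements
  have lift : ∀ r, P r → ∀ g : G, (∃ k, g ^ r ^ k = 1) → ∀ u : G, u ^ 4 = 1 → f g * f u = f u * f g → g * u = u * g := by
    rintro r hr g ⟨k, hk⟩ u hu hfu
    have h1 : g * u * g⁻¹ * u⁻¹ ∈ f.ker := by
      rw [MonoidHom.mem_ker, map_mul, map_mul, map_mul, map_inv, map_inv, hfu]
      group
    set c := g * u * g⁻¹ * u⁻¹ with hc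
    have h2 : c ^ 4 = 1 := by
      have h3 : c ^ 2 = 1 := by rw [pow_two]; exact hz2 c h1
      have h4 : c ^ 4 = (c ^ 2) ^ 2 := by rw [← pow_mul]
      rw [h4, h3, one_pow]
    have h5 : c = 1 := comm_order (y := g) (d := u) hk h2
      (Nat.Coprime.pow_right _ (show Nat.Coprime 4 r from
        Nat.Coprime.pow_left 2 ((Nat.coprime_primes Nat.prime_two (hP r hr).1).2 (hP r hr).2.symm)))
      (hz c h1 g).symm hc.symm
    have h6 : g * u = c * (u * g) := by rw [hc]; group
    rw [h6, h5, one_mul]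
  have hsq4 : ∀ c : G, c * c = 1 → c ^ 4 = 1 := by
    intro c hc
    have h4 : c ^ 4 = (c * c) * (c * c) := by simp only [pow_succ, pow_zero, one_mul, mul_assoc]
    rw [h4, hc, one_mul]
  have hlift : ∀ r, P r → ∀ c : S, (∃ k, c ^ r ^ k = 1) → ∃ g : G, f g = c ∧ ∃ k, g ^ r ^ k = 1 := by
    rintro r hr c ⟨k, hk⟩
    have hrp := (hP r hr).1
    obtain ⟨j, -, hj⟩ := (Nat.dvd_prime_pow hrp).1 (orderOf_dvd_of_pow_eq_one hk)
    obtain ⟨g, hg, s, hs⟩ := Cfsg.Agent.H478.CycConjQuot.exists_lift f hrp hf (h := c) (k := j) hj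
    exact ⟨g, hg, s, by rw [← hs]; exact pow_orderOf_eq_one g⟩
  refine ⟨fun i => ?_, fun i => ?_, fun i => ?_, ?_, ?_, ?_, ?_, fun i r hr => ?_, fun i r hr => ?_,
    fun r hr c ho hcon hor => ?_, fun r hr c hc hcon D hD hDx hn => ?_⟩
  · rw [← map_pow, h.four, map_one]
  · rw [← map_mul, ← map_mul, h.sq]
  · rw [← map_inv, ← map_inv, ← map_mul, ← map_mul, h.inv]
  · rw [← map_mul, h.aa, map_one]
  · rw [← map_mul, h.bb, map_one]
  · rw [← map_mul, ← map_mul, h.ab]
  · have h1 := (isPGroup_pairs h.four h.sq h.inv h.pairs h.aa h.bb h.ab h.ca h.cb).map f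
    rw [MonoidHom.map_closure, Set.image_union, Set.image_union, ← Set.range_comp, ← Set.range_comp,
      Set.image_pair] at h1
    exact h1
  · have := Fact.mk (hP r hr).1
    exact CenR.down hf hz (h.cx i r hr)
  · have := Fact.mk (hP r hr).1
    exact CenR.down hf hz (h.cy i r hr)
  · obtain ⟨g, rfl, hg⟩ := hlift r hr c ⟨1, by rw [pow_one, ← ho]; exact pow_orderOf_eq_one c⟩
    have h1 := h.tor r hr g hg (fun i => lift r hr g hg (x i) (h.four i) (hcon i)) (by
      rcases hor with h2 | h2 | h2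
      · exact Or.inl (lift r hr g hg a (hsq4 a h.aa) h2)
      · exact Or.inr (Or.inl (lift r hr g hg b (hsq4 b h.bb) h2))
      · refine Or.inr (Or.inr (lift r hr g hg (a * b) (hsq4 _ ?_) (by rw [map_mul]; exact h2)))
        calc a * b * (a * b) = a * (b * a) * b := by group
          _ = a * (a * b) * b := by rw [h.ab]
          _ = (a * a) * (b * b) := by group
          _ = 1 := by rw [h.aa, h.bb, one_mul])
    rw [h1, map_one, orderOf_one] at ho
    exact (hP r hr).1.one_lt.ne ho
  · obtain ⟨g, rfl, hg⟩ := hlift r hr c hc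
    have hD2 : IsPGroup 2 (D.comap f) := by
      rintro ⟨d, hd⟩
      obtain ⟨k, hk⟩ := hD ⟨f d, hd⟩
      refine ⟨k + 1, Subtype.ext ?_⟩
      have h1 : f (d ^ 2 ^ k) = 1 := by rw [map_pow]; exact congrArg Subtype.val hk
      show d ^ 2 ^ (k + 1) = 1
      rw [pow_succ, pow_mul, pow_two]
      exact hz2 _ h1
    have h1 := h.frob r hr g hg (fun i => lift r hr g hg (x i) (h.four i) (hcon i)) (D.comap f) hD2 (by
      intro d hd i
      have h2 : f d * f (x i) = f (x i) * f d := hDx _ hd i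
      have h3 : d * x i * d⁻¹ * (x i)⁻¹ ∈ f.ker := by
        rw [MonoidHom.mem_ker, map_mul, map_mul, map_mul, map_inv, map_inv, h2]
        group
      set c := d * x i * d⁻¹ * (x i)⁻¹ with hc'
      have h4 : d * x i = c * x i * d := by rw [hc']; group
      calc d * (x i * x i) = (d * x i) * x i := by group
        _ = c * x i * d * x i := by rw [h4]
        _ = c * x i * (d * x i) := by group
        _ = c * x i * (c * x i * d) := by rw [h4]
        _ = c * (x i * c) * x i * d := by group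
        _ = c * (c * x i) * x i * d := by rw [hz c h3 (x i)]
        _ = (c * c) * (x i * x i) * d := by group
        _ = x i * x i * d := by rw [hz2 c h3, one_mul]) (by
      intro d hd
      show f (g * d * g⁻¹) ∈ D
      rw [map_mul, map_mul, map_inv]
      exact hn _ hd)
    intro d hd
    obtain ⟨e, rfl⟩ := hf d
    have h2 : g * e = e * g := h1 e hd
    rw [← map_mul, ← map_mul, h2]

end Cfsg.Agent.H558.Orth
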