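import Cfsg.Agent.H558.Orth.Omg
import Cfsg.Agent.H558.Orth.Gd
import Cfsg.Agent.H556.OmSmall
import Cfsg.Agent.H556.OmMax

/-!
# The quaternion pairs of `Omega`
-/

set_option autoImplicit false
set_option linter.unusedSectionVars false

namespace Cfsg.Agent.H558.Orth

open Module QuadraticMap Cfsg.Agent.H167.OP Cfsg.Agent.H170.HL Cfsg.Agent.H170.HL.OmRow Cfsg.Agent.H556.Om
open Cfsg.Agent.H558.Deg4Data

section signs

variable (F : Type*) [Field F]

/-- signs of the left (`true`) and right multiplication by `i` -/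
def sx (c : Bool) : A4 → F := bif c then sg F (1, 0) (1, 1) else sg F (1, 0) (0, 1)

/-- signs of the left (`true`) and right multiplication by `j` -/
def sy (c : Bool) : A4 → F := bif c then sg F (1, 0) (0, 1) else sg F (0, 1) (1, 1)

/-- integral signs -/
def sgZ (i j k : A4) : ℤ := if k = i ∨ k = j then -1 else 1

def sxZ (c : Bool) : A4 → ℤ := bif c then sgZ (1, 0) (1, 1) else sgZ (1, 0) (0, 1)
def syZ (c : Bool) : A4 → ℤ := bif c then sgZ (1, 0) (0, 1) else sgZ (0, 1) (1, 1)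

theorem sg_eq (i j k : A4) : sg F i j k = (sgZ i j k : F) := by
  unfold sg sgZ
  split_ifs <;> simp

theorem sx_eq (c : Bool) (k : A4) : sx F c k = (sxZ c k : F) := by
  cases c <;> exact sg_eq F _ _ _

theorem sy_eq (c : Bool) (k : A4) : sy F c k = (syZ c k : F) := by
  cases c <;> exact sg_eq F _ _ _

theorem xx (c : Bool) (j : A4) : sx F c j * sx F c ((1, 0) + j) = -1 := by
  rw [sx_eq, sx_eq, ← Int.cast_mul]
  have : ∀ (c : Bool) (j : A4), sxZ c j * sxZ c ((1, 0) + j) = -1 := by decide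
  rw [this]; simp

theorem yy (c : Bool) (j : A4) : sy F c j * sy F c ((0, 1) + j) = -1 := by
  rw [sy_eq, sy_eq, ← Int.cast_mul]
  have : ∀ (c : Bool) (j : A4), syZ c j * syZ c ((0, 1) + j) = -1 := by decide
  rw [this]; simp

theorem xyx (c : Bool) (j : A4) :
    sx F c j * sy F c ((1, 0) + j) * sx F c ((0, 1) + ((1, 0) + j)) = sy F c j := by
  rw [sx_eq, sx_eq, sy_eq, sy_eq, ← Int.cast_mul, ← Int.cast_mul]
  have : ∀ (c : Bool) (j : A4), sxZ c j * syZ c ((1, 0) + j) * sxZ c ((0, 1) + ((1, 0) + j)) = syZ c j := by decide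
  rw [this]

theorem lr_xx (j : A4) : sx F false j * sx F true ((1, 0) + j) = sx F true j * sx F false ((1, 0) + j) := by
  rw [sx_eq, sx_eq, sx_eq, sx_eq, ← Int.cast_mul, ← Int.cast_mul]
  have : ∀ (j : A4), sxZ false j * sxZ true ((1, 0) + j) = sxZ true j * sxZ false ((1, 0) + j) := by decide
  rw [this]

theorem lr_yy (j : A4) : sy F false j * sy F true ((0, 1) + j) = sy F true j * sy F false ((0, 1) + j) := by
  rw [sy_eq, sy_eq, sy_eq, sy_eq, ← Int.cast_mul, ← Int.cast_mul]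
  have : ∀ (j : A4), syZ false j * syZ true ((0, 1) + j) = syZ true j * syZ false ((0, 1) + j) := by decide
  rw [this]

theorem lr_xy (c : Bool) (j : A4) :
    sy F (!c) j * sx F c ((0, 1) + j) = sx F c j * sy F (!c) ((1, 0) + j) := by
  rw [sx_eq, sy_eq, sx_eq, sy_eq, ← Int.cast_mul, ← Int.cast_mul]
  have : ∀ (c : Bool) (j : A4), syZ (!c) j * sxZ c ((0, 1) + j) = sxZ c j * syZ (!c) ((1, 0) + j) := by decide
  rw [this]

theorem tau1 (j : A4) : sx F false j * sx F true ((1, 0) + j) = sg F (0, 0) (1, 0) j := by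
  rw [sx_eq, sx_eq, sg_eq, ← Int.cast_mul]
  have : ∀ (j : A4), sxZ false j * sxZ true ((1, 0) + j) = sgZ (0, 0) (1, 0) j := by decide
  rw [this]

theorem tau2 (j : A4) : sg F (0, 0) (1, 0) j * (-1) = sg F (0, 1) (1, 1) j := by
  rw [sg_eq, sg_eq]
  have : ∀ (j : A4), sgZ (0, 0) (1, 0) j * (-1) = sgZ (0, 1) (1, 1) j := by decide
  rw [← this]; push_cast; ring

end signs

variable {F : Type*} [Field F] {ι : Type} [Fintype ι] [DecidableEq ι] {Q : QuadraticForm F (ι → F)}

theorem exists_el (hQ : GoodQ Q) (h2 : (2 : F) ≠ 0) {e : A4 → ι → F} (hF : Frame (polarBilin Q) e) (a : A4) {i j : A4}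
    (hij : i ≠ j) : ∃ x : Cfsg.Omega F (⇑Q), rep (inc (⇑Q)) x = mono (polarBilin Q) e (sg F i j) (a + ·) := by
  obtain ⟨x, -, hx⟩ := exists_T hQ h2 hF a
  obtain ⟨y, -, hy⟩ := exists_D hQ h2 hF hij
  refine ⟨x * y, ?_⟩
  rw [map_mul, hx, hy, mono_mul hF h2]
  congr 1
  funext k
  rw [mul_one]

/-- the configuration -/
structure Cfg {K : Type} [Fintype K] [DecidableEq K] (Q : QuadraticForm F (ι → F)) (E : K × A4 → ι → F)
    (x y : K × Bool → Cfsg.Omega F (⇑Q)) (a b : Cfsg.Omega F (⇑Q)) : Prop where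
  frame : Frame (polarBilin Q) E
  hx : ∀ i, rep (inc (⇑Q)) (x i) = mono (polarBilin Q) (Ek E i.1) (sx F i.2) ((1, 0) + ·)
  hy : ∀ i, rep (inc (⇑Q)) (y i) = mono (polarBilin Q) (Ek E i.1) (sy F i.2) ((0, 1) + ·)
  hc : Fintype.card ι ≤ 4 * Fintype.card K + 4
  hab : (Fintype.card ι ≤ 4 * Fintype.card K + 3 ∧ a = 1 ∧ b = 1) ∨
    ∃ w : Fin 3 → ι → F, Frame (polarBilin Q) w ∧ (∀ j l, polarBilin Q (E j) (w l) = 0) ∧
      rep (inc (⇑Q)) a = mono (polarBilin Q) w (sg F 0 1) id ∧ rep (inc (⇑Q)) b = mono (polarBilin Q) w (sg F 1 2) id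

theorem exists_cfg [Finite F] (hQ : GoodQ Q) (h2 : (2 : F) ≠ 0) :
    ∃ (k : ℕ) (E : Fin k × A4 → ι → F) (x y : Fin k × Bool → Cfsg.Omega F (⇑Q)) (a b : Cfsg.Omega F (⇑Q)),
      Cfg Q E x y a b := by
  have hc3 := hQ.card
  let e0 : Fin 0 → ι → F := fun i => i.elim0
  have he0 : Frame (polarBilin Q) e0 := ⟨fun i => i.elim0, fun i => i.elim0⟩
  obtain ⟨n, hnc⟩ : ∃ n, n = Fintype.card ι := ⟨_, rfl⟩
  obtain ⟨v, hv, -⟩ := exists_frames hQ.nd h2 he0 (n - 1) (by rw [Fintype.card_fin]; omega)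
  set k := (n - 1) / 4 with hk
  set t := (n - 1) % 4 with ht
  have hn : n - 1 = 4 * k + t := (Nat.div_add_mod _ _).symm
  have hcardJ : Fintype.card ((Fin k × A4) ⊕ Fin t) = Fintype.card (Fin (n - 1)) := by
    have h4 : Fintype.card A4 = 4 := rfl
    rw [Fintype.card_sum, Fintype.card_prod, Fintype.card_fin, Fintype.card_fin, Fintype.card_fin, h4, hn, mul_comm]
  let ε : (Fin k × A4) ⊕ Fin t ≃ Fin (n - 1) := Fintype.equivOfCardEq hcardJ
  let E : Fin k × A4 → ι → F := fun j => v (ε (Sum.inl j))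
  have hE : Frame (polarBilin Q) E := hv.comp (κ := fun j => ε (Sum.inl j)) (ε.injective.comp Sum.inl_injective)
  have hX : ∀ i : Fin k × Bool, ∃ x : Cfsg.Omega F (⇑Q),
      rep (inc (⇑Q)) x = mono (polarBilin Q) (Ek E i.1) (sx F i.2) ((1, 0) + ·) := by
    rintro ⟨i, c⟩
    cases c
    · exact exists_el hQ h2 (Ek_frame hE i) (1, 0) (by decide)
    · exact exists_el hQ h2 (Ek_frame hE i) (1, 0) (by decide)
  have hY : ∀ i : Fin k × Bool, ∃ x : Cfsg.Omega F (⇑Q),
      rep (inc (⇑Q)) x = mono (polarBilin Q) (Ek E i.1) (sy F i.2) ((0, 1) + ·) := by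
    rintro ⟨i, c⟩
    cases c
    · exact exists_el hQ h2 (Ek_frame hE i) (0, 1) (by decide)
    · exact exists_el hQ h2 (Ek_frame hE i) (0, 1) (by decide)
  choose x hx using hX
  choose y hy using hY
  have ht4 : t < 4 := Nat.mod_lt _ (by norm_num)
  by_cases ht3 : t = 3
  · let w : Fin 3 → ι → F := fun l => v (ε (Sum.inr (Fin.cast ht3.symm l)))
    have hw : Frame (polarBilin Q) w := hv.comp (κ := fun l => ε (Sum.inr (Fin.cast ht3.symm l)))
      (ε.injective.comp (Sum.inr_injective.comp (Fin.cast_injective _)))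
    obtain ⟨a, ha⟩ := exists_sg hQ h2 hw (i := 0) (j := 1) (by decide)
    obtain ⟨b, hb⟩ := exists_sg hQ h2 hw (i := 1) (j := 2) (by decide)
    refine ⟨k, E, x, y, a, b, hE, hx, hy, ?_, Or.inr ⟨w, hw, ?_, ha, hb⟩⟩
    · rw [Fintype.card_fin]; omega
    · intro j l
      exact hv.orth (ε (Sum.inl j)) (ε (Sum.inr (Fin.cast ht3.symm l))) fun h => by
        have := ε.injective h
        cases this
  · refine ⟨k, E, x, y, 1, 1, hE, hx, hy, ?_, Or.inl ⟨?_, rfl, rfl⟩⟩
    · rw [Fintype.card_fin]; omega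
    · rw [Fintype.card_fin]; omega

section rel

variable {K : Type} [Fintype K] [DecidableEq K] {E : K × A4 → ι → F} {x y : K × Bool → Cfsg.Omega F (⇑Q)}
  {a b : Cfsg.Omega F (⇑Q)} (C : Cfg Q E x y a b) (h2 : (2 : F) ≠ 0)

include C h2

theorem Cfg.rep_xx (i : K × Bool) : rep (inc (⇑Q)) (x i * x i) = mono (polarBilin Q) (Ek E i.1) (fun _ => -1) id := by
  have hF := Ek_frame C.frame i.1
  rw [map_mul, C.hx, mono_mul hF h2]
  congr 1
  · funext j; exact xx F _ _
  · funext j
    have : ∀ j : A4, (1, 0) + ((1, 0) + j) = j := by decide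
    exact this j

theorem Cfg.rep_yy (i : K × Bool) : rep (inc (⇑Q)) (y i * y i) = mono (polarBilin Q) (Ek E i.1) (fun _ => -1) id := by
  have hF := Ek_frame C.frame i.1
  rw [map_mul, C.hy, mono_mul hF h2]
  congr 1
  · funext j; exact yy F _ _
  · funext j
    have : ∀ j : A4, (0, 1) + ((0, 1) + j) = j := by decide
    exact this j

theorem Cfg.sq (i : K × Bool) : y i * y i = x i * x i := by
  apply rep_inj
  rw [C.rep_xx h2, C.rep_yy h2]

theorem Cfg.four (i : K × Bool) : x i ^ 4 = 1 := by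
  apply rep_inj
  have hF := Ek_frame C.frame i.1
  have : x i ^ 4 = (x i * x i) * (x i * x i) := by simp only [pow_succ, pow_zero, one_mul, mul_assoc]
  rw [this, map_mul, C.rep_xx h2, mono_mul hF h2, map_one]
  refine mono_one hF h2 (fun j => ?_) fun j => rfl
  ring

theorem Cfg.xyx (i : K × Bool) : x i * (y i * x i) = y i := by
  apply rep_inj
  have hF := Ek_frame C.frame i.1
  rw [map_mul, map_mul, C.hx, C.hy, mono_mul hF h2, mono_mul hF h2]
  congr 1
  · funext j
    exact Orth.xyx F _ _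
  · funext j
    have : ∀ j : A4, (1, 0) + ((0, 1) + ((1, 0) + j)) = (0, 1) + j := by decide
    exact this j

theorem Cfg.inv (i : K × Bool) : y i * x i * (y i)⁻¹ = (x i)⁻¹ := by
  apply eq_inv_of_mul_eq_one_right
  have h1 : x i * (y i * x i * (y i)⁻¹) = x i * (y i * x i) * (y i)⁻¹ := by group
  rw [h1, C.xyx h2, mul_inv_cancel]

theorem Cfg.orth {i j : K} (hij : i ≠ j) (c d : A4) : polarBilin Q (Ek E i c) (Ek E j d) = 0 :=
  C.frame.orth _ _ fun h => hij (congrArg Prod.fst h)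

theorem Cfg.pairs (i j : K × Bool) (hij : i ≠ j) : Commute (x i) (x j) ∧ Commute (x i) (y j) ∧ Commute (y i) (y j) := by
  obtain ⟨i, c⟩ := i
  obtain ⟨j, d⟩ := j
  by_cases h : i = j
  · subst h
    have hF := Ek_frame C.frame i
    have hcd : d = !c := by
      cases c <;> cases d
      · exact absurd rfl hij
      · rfl
      · rfl
      · exact absurd rfl hij
    subst hcd
    refine ⟨?_, ?_, ?_⟩
    · apply rep_inj
      rw [map_mul, map_mul, C.hx, C.hx, mono_mul hF h2, mono_mul hF h2]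
      cases c
      · congr 1
        funext k
        exact (lr_xx F k).symm
      · congr 1
        funext k
        exact lr_xx F k
    · apply rep_inj
      rw [map_mul, map_mul, C.hx, C.hy, mono_mul hF h2, mono_mul hF h2]
      congr 1
      · funext k
        exact lr_xy F c k
      · funext k
        have : ∀ k : A4, (1, 0) + ((0, 1) + k) = (0, 1) + ((1, 0) + k) := by decide
        exact this k
    · apply rep_inj
      rw [map_mul, map_mul, C.hy, C.hy, mono_mul hF h2, mono_mul hF h2]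
      cases c
      · congr 1
        funext k
        exact (lr_yy F k).symm
      · congr 1
        funext k
        exact lr_yy F k
  · have hF := Ek_frame C.frame i
    refine ⟨?_, ?_, ?_⟩
    · apply rep_inj
      rw [map_mul, map_mul, C.hx, C.hx]
      exact mono_comm hF h2 polar_symm (C.orth h2 h)
    · apply rep_inj
      rw [map_mul, map_mul, C.hx, C.hy]
      exact mono_comm hF h2 polar_symm (C.orth h2 h)
    · apply rep_inj
      rw [map_mul, map_mul, C.hy, C.hy]
      exact mono_comm hF h2 polar_symm (C.orth h2 h)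

theorem Cfg.aab : (a * a = 1 ∧ b * b = 1 ∧ a * b = b * a) ∧ (∀ i, Commute a (x i) ∧ Commute a (y i)) ∧
    ∀ i, Commute b (x i) ∧ Commute b (y i) := by
  rcases C.hab with ⟨-, rfl, rfl⟩ | ⟨w, hw, ho, ha, hb⟩
  · exact ⟨⟨one_mul 1, one_mul 1, rfl⟩, fun i => ⟨Commute.one_left _, Commute.one_left _⟩,
      fun i => ⟨Commute.one_left _, Commute.one_left _⟩⟩
  · have hsq : ∀ {g : Cfsg.Omega F (⇑Q)} {i j : Fin 3}, rep (inc (⇑Q)) g = mono (polarBilin Q) w (sg F i j) id →
        g * g = 1 := by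
      intro g i j hg
      apply rep_inj
      rw [map_mul, hg, mono_mul hw h2, map_one]
      refine mono_one hw h2 (fun k => ?_) fun j => rfl
      show sg F i j k * sg F i j k = 1
      unfold sg
      split_ifs <;> ring
    have hcm : ∀ {g : Cfsg.Omega F (⇑Q)} {i j : Fin 3}, rep (inc (⇑Q)) g = mono (polarBilin Q) w (sg F i j) id →
        ∀ i, Commute g (x i) ∧ Commute g (y i) := by
      intro g i j hg l
      have ho' : ∀ m c, polarBilin Q (w m) (Ek E l.1 c) = 0 := fun m c => by rw [polar_symm]; exact ho _ _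
      refine ⟨?_, ?_⟩
      · apply rep_inj
        rw [map_mul, map_mul, C.hx, hg]
        exact mono_comm hw h2 polar_symm ho'
      · apply rep_inj
        rw [map_mul, map_mul, C.hy, hg]
        exact mono_comm hw h2 polar_symm ho'
    refine ⟨⟨hsq ha, hsq hb, ?_⟩, hcm ha, hcm hb⟩
    apply rep_inj
    rw [map_mul, map_mul, ha, hb, mono_mul hw h2, mono_mul hw h2]
    congr 1
    funext k
    exact mul_comm _ _

end rel

end Cfsg.Agent.H558.Orth
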