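import Cfsg.Agent.H558.Orth.Few
import Cfsg.Agent.H574.Deg4.CaseOne

/-!
# Elements of order four of an orthogonal group centralise the `r`-subgroups they normalise
-/

set_option autoImplicit false

namespace Cfsg.Agent.H558.Orth

open Matrix Module Cfsg.Agent.H558.Deg4Data Cfsg.Agent.H167.OP

section mult

variable {k V : Type*} [Field k] [IsAlgClosed k] [AddCommGroup V] [Module k V] [FiniteDimensional k V]
  (f : V →ₗ[k] V →ₗ[k] k)

/-- multiplicity at least two -/
theorem mult_two (hsym : ∀ u v, f u v = f v u) (hnd : ∀ u, (∀ v, f u v = 0) → u = 0) (T X : End k V)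
    (hT : ∀ u v, f (T u) (T v) = f u v) (hX : ∀ u v, f (X u) (X v) = f u v) (hTX : ∀ v, T (X (T v)) = X v) {m : ℕ}
    (hTm : T ^ m = 1) (hm : (m : k) ≠ 0) (h2 : (2 : k) ≠ 0) {u : V} {μ : k} (hTu : T u = μ • u)
    (hX2 : X (X u) = -u) (hu : ∀ w, T w = μ • w → ∃ c : k, w = c • u) : u = 0 := by
  obtain ⟨b, l, hl⟩ := Cfsg.Agent.H574.Deg4.exists_eigenbasis T hTm hm
  have hXu : f (X u) u = 0 := by
    have h1 : f (X u) u = - f (X u) u := by
      conv_lhs => rw [← hX, hX2, map_neg, LinearMap.neg_apply, hsym]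
    have h3 : 2 * f (X u) u = 0 := by linear_combination h1
    exact (mul_eq_zero.1 h3).resolve_left h2
  have key : ∀ j, f u (b j) = 0 := by
    intro j
    have h1 : f u (b j) = μ * l j * f u (b j) := by
      conv_lhs => rw [← hT, hTu, hl, map_smul, map_smul, LinearMap.smul_apply, smul_eq_mul, smul_eq_mul]
      ring
    by_cases h3 : μ * l j = 1
    · have hlj : l j ≠ 0 := right_ne_zero_of_mul_eq_one h3
      have h4 : T (X (b j)) = μ • X (b j) := by
        have h5 := hTX (b j)
        rw [hl, map_smul, map_smul] at h5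
        have h6 : μ = (l j)⁻¹ := eq_inv_of_mul_eq_one_left h3
        rw [h6, ← h5, smul_smul, inv_mul_cancel₀ hlj, one_smul, h5]
      obtain ⟨c, hc⟩ := hu _ h4
      rw [← hX, hc, map_smul, hXu, smul_zero]
    · have h4 : (1 - μ * l j) * f u (b j) = 0 := by rw [sub_mul, one_mul, ← h1, sub_self]
      exact (mul_eq_zero.1 h4).resolve_left (sub_ne_zero.2 (Ne.symm h3))
  apply hnd
  intro v
  rw [← b.sum_repr v, map_sum]
  refine Finset.sum_eq_zero fun j _ => ?_
  rw [map_smul, key, smul_zero]

end mult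

variable {F ι G : Type*} [Field F] [Fintype ι] [DecidableEq ι] [Group G]

/-- a group of isometries -/
structure IsoRep (ρ : G →* Matrix ι ι F) (B : Matrix ι ι F) : Prop where
  inj : Function.Injective ρ
  sym : Bᵀ = B
  nd : B.det ≠ 0
  inv : ∀ g, (ρ g)ᵀ * B * ρ g = B

/-- the form over the algebraic closure -/
noncomputable def barForm (B : Matrix ι ι F) :
    (ι → AlgebraicClosure F) →ₗ[AlgebraicClosure F] (ι → AlgebraicClosure F) →ₗ[AlgebraicClosure F] AlgebraicClosure F :=
  Matrix.toLinearMap₂' (AlgebraicClosure F) (B.map (algebraMap F (AlgebraicClosure F)))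

theorem barForm_apply (B : Matrix ι ι F) (u v : ι → AlgebraicClosure F) :
    barForm B u v = u ⬝ᵥ ((B.map (algebraMap F (AlgebraicClosure F))) *ᵥ v) := by
  rw [barForm, Matrix.toLinearMap₂'_apply']

section

variable {ρ : G →* Matrix ι ι F} {B : Matrix ι ι F} (h : IsoRep ρ B)

include h

theorem IsoRep.bar_sym (u v : ι → AlgebraicClosure F) : barForm B u v = barForm B v u := by
  rw [barForm_apply, barForm_apply, Matrix.dotProduct_mulVec, ← Matrix.mulVec_transpose, dotProduct_comm]
  rw [← Matrix.transpose_map, h.sym]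

theorem IsoRep.bar_nd (u : ι → AlgebraicClosure F) (hu : ∀ v, barForm B u v = 0) : u = 0 := by
  have h1 : (B.map (algebraMap F (AlgebraicClosure F))) *ᵥ u = 0 := by
    ext i
    have h2 := hu (Pi.single i 1)
    rw [h.bar_sym, barForm_apply, single_dotProduct, one_mul] at h2
    exact h2
  by_contra hu0
  have h2 := Matrix.exists_mulVec_eq_zero_iff.1 ⟨u, hu0, h1⟩
  have h3 := RingHom.map_det (algebraMap F (AlgebraicClosure F)) B
  change algebraMap F (AlgebraicClosure F) B.det = (B.map (algebraMap F (AlgebraicClosure F))).det at h3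
  rw [h2] at h3
  exact h.nd ((map_eq_zero _).1 h3)

theorem IsoRep.bar_inv (g : G) (u v : ι → AlgebraicClosure F) : barForm B (bar ρ g u) (bar ρ g v) = barForm B u v := by
  rw [barForm_apply, barForm_apply, bar_apply, bar_apply]
  have h1 : ((ρ g).map (algebraMap F (AlgebraicClosure F)))ᵀ * (B.map (algebraMap F (AlgebraicClosure F)))
      * (ρ g).map (algebraMap F (AlgebraicClosure F)) = B.map (algebraMap F (AlgebraicClosure F)) := by
    rw [← Matrix.transpose_map, ← Matrix.map_mul, ← Matrix.map_mul, h.inv]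
  conv_rhs => rw [← h1]
  rw [← Matrix.vecMul_transpose, ← Matrix.dotProduct_mulVec, ← Matrix.mulVec_mulVec, ← Matrix.mulVec_mulVec]

end

theorem bar_pow_one {ρ : G →* Matrix ι ι F} {c : G} {m : ℕ} (hc : c ^ m = 1) : (bar ρ c) ^ m = 1 := by
  rw [← map_pow, hc, map_one]

/-- An element `c` of order prime to `q² - 1` which is inverted by `x`, `ker (x² - 1) ≤ ker (c - 1)`. -/
theorem eq_one_of_inverted [Finite F] {ρ : G →* Matrix ι ι F} {B : Matrix ι ι F} (h : IsoRep ρ B) {q : ℕ}
    (hq : Nat.card F = q) (h2 : (2 : F) ≠ 0) {c x : G} (hx4 : x ^ 4 = 1) (hrk : (ρ (x * x) - 1).rank ≤ 4)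
    (hcx : c * x * c = x) (hcc : (x * x) * c = c * (x * x))
    (hfix : ∀ v, bar ρ (x * x) v = v → bar ρ c v = v) {m : ℕ} (hm : c ^ m = 1) (hmF : (m : F) ≠ 0)
    (hcop : m.Coprime (q ^ 2 - 1)) : c = 1 := by
  classical
  have h2L : (2 : AlgebraicClosure F) ≠ 0 := by
    intro h0
    apply h2
    have h1 : algebraMap F (AlgebraicClosure F) 2 = 0 := by rw [map_ofNat, h0]
    exact (map_eq_zero _).1 h1
  have hmL : (m : AlgebraicClosure F) ≠ 0 := by
    intro h0
    apply hmF
    have h1 : algebraMap F (AlgebraicClosure F) (m : F) = 0 := by rw [map_natCast, h0]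
    exact (map_eq_zero _).1 h1
  -- `x² = -1` on the eigenvectors
  have hneg : ∀ u (μ : AlgebraicClosure F), μ ≠ 1 → bar ρ c u = μ • u → bar ρ x (bar ρ x u) = -u := by
    intro u μ hμ hu
    have e1 : bar ρ (x * x) u = bar ρ x (bar ρ x u) := by rw [map_mul, Module.End.mul_apply]
    have e2 : bar ρ (x * x) (u + bar ρ (x * x) u) = u + bar ρ (x * x) u := by
      have : bar ρ (x * x) (bar ρ (x * x) u) = u := by
        rw [← Module.End.mul_apply, ← map_mul]
        have : x * x * (x * x) = 1 := by rw [← hx4]; simp only [pow_succ, pow_zero, one_mul, mul_assoc]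
        rw [this, map_one, Module.End.one_apply]
      rw [map_add, this, add_comm]
    have e3 := hfix _ e2
    have e4 : bar ρ c (bar ρ (x * x) u) = μ • bar ρ (x * x) u := by
      rw [← Module.End.mul_apply, ← map_mul, ← hcc, map_mul, Module.End.mul_apply, hu, map_smul]
    rw [map_add, hu, e4, ← smul_add] at e3
    have e5 : (μ - 1) • (u + bar ρ (x * x) u) = 0 := by rw [sub_smul, one_smul, e3, sub_self]
    have e6 := (smul_eq_zero.1 e5).resolve_left (sub_ne_zero.2 hμ)
    rw [← e1]
    exact (neg_eq_of_add_eq_zero_right e6).symm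
  have hrank : finrank (AlgebraicClosure F) (LinearMap.range (bar ρ c - 1)) ≤ 4 := by
    have h1 : finrank (AlgebraicClosure F) (LinearMap.range (bar ρ (x * x) - 1)) ≤ 4 := by
      rw [bar_sub_one]
      exact (Cfsg.Agent.H574.Deg4.finrank_range_map (algebraMap F (AlgebraicClosure F)) _).trans hrk
    refine le_trans ?_ h1
    have e1 := LinearMap.finrank_range_add_finrank_ker (bar ρ (x * x) - 1)
    have e2 := LinearMap.finrank_range_add_finrank_ker (bar ρ c - 1)
    have e3 : finrank (AlgebraicClosure F) (LinearMap.ker (bar ρ (x * x) - 1))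
        ≤ finrank (AlgebraicClosure F) (LinearMap.ker (bar ρ c - 1)) :=
      Submodule.finrank_mono fun v hv => by
        rw [LinearMap.mem_ker, LinearMap.sub_apply, sub_eq_zero] at hv ⊢
        exact hfix v hv
    omega
  have hM : (ρ c) ^ (q ^ 2 - 1) = 1 := by
    refine pow_eq_one_of_few hq (ρ c) (m := m) (by rw [← map_pow, hm, map_one]) hmF ?_
    intro u l hu hl hl1 hinj
    have hl' : ∀ i, bar ρ c (u i) = l i • u i := hl
    have htwo : ∀ i, 2 ≤ finrank (AlgebraicClosure F) ((bar ρ c).eigenspace (l i)) := by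
      intro i
      by_contra hcon
      apply hu i
      refine mult_two (barForm B) h.bar_sym h.bar_nd (bar ρ c) (bar ρ x) (h.bar_inv c) (h.bar_inv x) ?_
        (bar_pow_one hm) hmL h2L (hl' i) (hneg _ _ (hl1 i) (hl' i)) ?_
      · intro v
        rw [← Module.End.mul_apply, ← Module.End.mul_apply, ← map_mul, ← map_mul, hcx]
      · intro w hw
        have hmem : u i ∈ (bar ρ c).eigenspace (l i) := Module.End.mem_eigenspace_iff.2 (hl' i)
        have h1 : finrank (AlgebraicClosure F) ((bar ρ c).eigenspace (l i)) ≤ 1 := by omega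
        have h3 := finrank_le_one_iff.1 h1
        obtain ⟨v, hv⟩ := h3
        obtain ⟨a, ha⟩ := hv ⟨u i, hmem⟩
        obtain ⟨b, hb⟩ := hv ⟨w, Module.End.mem_eigenspace_iff.2 hw⟩
        have ha' : a • (v : ι → AlgebraicClosure F) = u i := congrArg Subtype.val ha
        have hb' : b • (v : ι → AlgebraicClosure F) = w := congrArg Subtype.val hb
        have ha0 : a ≠ 0 := by
          rintro rfl
          rw [zero_smul] at ha'
          exact hu i ha'.symm
        refine ⟨b * a⁻¹, ?_⟩
        rw [← ha', smul_smul, mul_assoc, inv_mul_cancel₀ ha0, mul_one, hb']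
    have h3 := sum_eigenspace_le (bar ρ c) hinj hl1
    rw [Fin.sum_univ_three] at h3
    have := htwo 0
    have := htwo 1
    have := htwo 2
    omega
  apply eq_one_of_coprime hm _ hcop
  apply h.inj
  rw [map_pow, hM, map_one]

/-- The linear facts at the prime `r`. -/
structure OHyp (q r : ℕ) (ρ : G →* Matrix ι ι F) (B : Matrix ι ι F) : Prop where
  iso : IsoRep ρ B
  card : Nat.card F = q
  two : (2 : F) ≠ 0
  rr : r.Prime
  r5 : 5 ≤ r
  rF : (r : F) ≠ 0
  rq : ¬ r ∣ q ^ 2 - 1

theorem OHyp.cast_ne {q r : ℕ} {ρ : G →* Matrix ι ι F} {B : Matrix ι ι F} (h : OHyp q r ρ B) (k : ℕ) :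
    ((r ^ k : ℕ) : F) ≠ 0 := by
  rw [Nat.cast_pow]; exact pow_ne_zero _ h.rF

theorem OHyp.cop {q r : ℕ} {ρ : G →* Matrix ι ι F} {B : Matrix ι ι F} (h : OHyp q r ρ B) (k : ℕ) :
    (r ^ k).Coprime (q ^ 2 - 1) :=
  Nat.Coprime.pow_left _ ((Nat.Prime.coprime_iff_not_dvd h.rr).2 h.rq)

theorem natCast_ne_bar {n : ℕ} (h : (n : F) ≠ 0) : (n : AlgebraicClosure F) ≠ 0 := by
  intro h0
  apply h
  have h1 : algebraMap F (AlgebraicClosure F) (n : F) = 0 := by rw [map_natCast, h0]
  exact (map_eq_zero _).1 h1

/-- **Abelian `r`-subgroups normalised by `x` are centralised.** -/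
theorem cen_of_abelian_iso [Finite F] [Finite G] {q r : ℕ} {ρ : G →* Matrix ι ι F} {B : Matrix ι ι F} (h : OHyp q r ρ B)
    {x : G} (h4 : x ^ 4 = 1) (hrk : (ρ (x * x) - 1).rank ≤ 4) (hnx : ∀ v, ρ x *ᵥ v = -v → v = 0) {A : Subgroup G}
    (hA : IsPGroup r A) (hab : ∀ a ∈ A, ∀ b ∈ A, a * b = b * a) (hx : ∀ a ∈ A, x⁻¹ * a * x ∈ A) :
    ∀ a ∈ A, x⁻¹ * a * x = a := by
  classical
  intro a ha
  have hrf : Fact r.Prime := ⟨h.rr⟩
  have h2 : (2 : AlgebraicClosure F) ≠ 0 := by
    have := natCast_ne_bar (F := F) (n := 2) (by exact_mod_cast h.two)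
    exact_mod_cast this
  obtain ⟨n, hn⟩ := IsPGroup.iff_card.1 hA
  have hcA : (Nat.card A : AlgebraicClosure F) ≠ 0 := by rw [hn]; exact natCast_ne_bar (h.cast_ne n)
  have hinj := bar_injective h.iso.inj
  obtain ⟨key0, key⟩ := Cfsg.Agent.H574.Deg4.order_four (bar ρ) hinj hcA hab h2 hx h4
    (fun v hv => no_neg_map (algebraMap F (AlgebraicClosure F)) hnx v hv)
  set c := a⁻¹ * (x⁻¹ * a * x) with hc
  have hcA' : c ∈ A := A.mul_mem (A.inv_mem ha) (hx a ha)
  have hxx : ∀ b ∈ A, (x * x) * b = b * (x * x) := by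
    intro b hb
    have h1 := key0 b hb
    rw [pow_two] at h1
    calc x * x * b = x * x * ((x * x)⁻¹ * b * (x * x)) := by rw [h1]
      _ = b * (x * x) := by group
  obtain ⟨k, hk⟩ := hA ⟨c, hcA'⟩
  have hk' : c ^ r ^ k = 1 := congrArg Subtype.val hk
  have hcx : c * x * c = x := by
    have h1 := hxx a⁻¹ (A.inv_mem ha)
    calc c * x * c = a⁻¹ * x⁻¹ * a * (x * x * a⁻¹) * x⁻¹ * a * x := by rw [hc]; group
      _ = a⁻¹ * x⁻¹ * a * (a⁻¹ * (x * x)) * x⁻¹ * a * x := by rw [h1]
      _ = x := by group
  have h9 : c = 1 := eq_one_of_inverted h.iso h.card h.two h4 hrk hcx (hxx c hcA')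
    (fun v hv => key a ha v (by rw [pow_two]; exact hv)) hk' (h.cast_ne k) (h.cop k)
  rw [hc, inv_mul_eq_one] at h9
  exact h9.symm

/-- **`r`-subgroups normalised by `x` are centralised by `x`.** -/
theorem cenR_iso [Finite F] [Finite G] {q r : ℕ} {ρ : G →* Matrix ι ι F} {B : Matrix ι ι F} (h : OHyp q r ρ B)
    {x : G} (h4 : x ^ 4 = 1) (hrk : (ρ (x * x) - 1).rank ≤ 4) (hnx : ∀ v, ρ x *ᵥ v = -v → v = 0) : CenR r x := by
  classical
  intro N hN hx
  refine cen_abs h.rr h.r5 h4 ?_ ?_ hN hx
  · intro A hA hab hxA a ha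
    have h1 := cen_of_abelian_iso h h4 hrk hnx hA hab (nrm_inv_of_four h4 hxA) a ha
    rw [mul_assoc, inv_mul_eq_iff_eq_mul] at h1
    exact h1.symm
  · intro h7 d v w c n hv hvr hwr hcr hvw hcv hcw
    by_contra hc1
    set z := x * x with hz
    have hzz : z * z = 1 := by
      rw [hz, ← h4]; simp only [pow_succ, pow_zero, one_mul, mul_assoc]
    have hzinv : z⁻¹ = z := inv_eq_of_mul_eq_one_right hzz
    have hz2 : finrank (AlgebraicClosure F) (LinearMap.range (bar ρ z - 1)) ≤ 4 := by
      rw [bar_sub_one]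
      exact (Cfsg.Agent.H574.Deg4.finrank_range_map (algebraMap F (AlgebraicClosure F)) _).trans hrk
    have h1 : finrank (AlgebraicClosure F) (LinearMap.range (bar ρ v - 1)) ≤ 8 := by
      rw [hv]
      refine (rk_pow_le (bar ρ) _ n).trans ?_
      have h2 : z * d * z⁻¹ * d⁻¹ = z * (d * z * d⁻¹) := by rw [hzinv]; group
      rw [h2]
      refine (rk_mul_le (bar ρ) _ _).trans ?_
      have := rk_conj_le' (bar ρ) d z
      omega
    have hinj := bar_injective h.iso.inj
    -- two eigenvalues of `c`
    have hrL : (r : AlgebraicClosure F) ≠ 0 := natCast_ne_bar h.rF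
    have hC : (bar ρ c) ^ r = 1 := by rw [← map_pow, hcr, map_one]
    obtain ⟨b, l, hl⟩ := Cfsg.Agent.H574.Deg4.exists_eigenbasis (bar ρ c) hC hrL
    obtain ⟨i, hi⟩ : ∃ i, l i ≠ 1 := by
      by_contra hcon
      push Not at hcon
      apply hc1
      apply hinj
      rw [map_one]
      apply b.ext
      intro i
      rw [hl, hcon, one_smul]; rfl
    have hpowC : ∀ n : ℕ, ((bar ρ c) ^ n) (b i) = l i ^ n • b i := by
      intro n
      induction n with
      | zero => simp
      | succ n ih => rw [pow_succ', Module.End.mul_apply, ih, map_smul, hl, smul_smul, pow_succ]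
    have hζr : l i ^ r = 1 := by
      have h1 := hpowC r
      rw [hC, Module.End.one_apply] at h1
      have h2 : (l i ^ r - 1) • b i = 0 := by rw [sub_smul, one_smul, ← h1, sub_self]
      exact sub_eq_zero.1 ((smul_eq_zero.1 h2).resolve_right (b.ne_zero i))
    have hord : orderOf (l i) = r := orderOf_eq_prime (hp := ⟨h.rr⟩) hζr hi
    have hq0 : 0 < q := by rw [← h.card]; exact Nat.card_pos
    have hrq1 : ¬ r ∣ q - 1 := by
      intro hd
      apply h.rq
      have : q ^ 2 - 1 = (q - 1) * (q + 1) := by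
        have h3 := Nat.sq_sub_sq q 1
        rw [one_pow] at h3
        rw [h3, mul_comm]
      rw [this]
      exact hd.mul_right _
    have hl0 : l i ≠ 0 := by
      intro h0
      rw [h0, zero_pow h.rr.ne_zero] at hζr
      exact zero_ne_one hζr
    have hne : l i ≠ l i ^ q := by
      intro h0
      apply hrq1
      rw [← hord]
      apply orderOf_dvd_of_pow_eq_one
      have h3 : l i ^ (q - 1) * l i = 1 * l i := by
        rw [← pow_succ, Nat.sub_add_cancel hq0, ← h0, one_mul]
      exact mul_right_cancel₀ hl0 h3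
    have hne1 : l i ^ q ≠ 1 := by
      intro h0
      obtain ⟨φ, hφ, -⟩ := exists_frob (F := F) h.card
      apply hi
      apply φ.injective
      rw [hφ, h0, map_one]
    have hfr := eigen_frob h.card (ρ c) (hl i)
    have h2 := rank_ge2 h.rr hrL (bar ρ v) (bar ρ w) (bar ρ c) hC (by rw [← map_mul, hvw, map_mul, map_mul])
      (by rw [← map_mul, hcv, map_mul]) (by rw [← map_mul, hcw, map_mul]) (by rw [← map_pow, hvr, map_one])
      (by rw [← map_pow, hwr, map_one]) (κ := Fin 2) (l := ![l i, l i ^ q]) (by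
        intro a c hac
        fin_cases a <;> fin_cases c
        · rfl
        · exact absurd hac hne
        · exact absurd hac.symm hne
        · rfl) (by
        intro j
        fin_cases j
        · exact hi
        · exact hne1) (by
        intro j h0
        fin_cases j
        · have h3 : b i ∈ (bar ρ c).eigenspace (l i) := Module.End.mem_eigenspace_iff.2 (hl i)
          change (bar ρ c).eigenspace (l i) = ⊥ at h0
          rw [h0] at h3
          exact b.ne_zero i h3
        · have h3 : (fun j => b i j ^ q) ∈ (bar ρ c).eigenspace (l i ^ q) := Module.End.mem_eigenspace_iff.2 hfr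
          change (bar ρ c).eigenspace (l i ^ q) = ⊥ at h0
          rw [h0] at h3
          apply b.ne_zero i
          ext j
          exact pow_eq_zero_iff (by omega) |>.1 (congrFun h3 j))
    rw [Fintype.card_fin] at h2
    omega

/-- **Isometries of small support.** -/
theorem eq_one_of_rank_le_three [Finite F] {q r : ℕ} {ρ : G →* Matrix ι ι F} {B : Matrix ι ι F} (h : OHyp q r ρ B)
    {g : G} {k : ℕ} (hg : g ^ r ^ k = 1) (hrk : (ρ g - 1).rank ≤ 3) : g = 1 := by
  classical
  have hM : (ρ g) ^ (q ^ 2 - 1) = 1 := by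
    refine pow_eq_one_of_few h.card (ρ g) (m := r ^ k) (by rw [← map_pow, hg, map_one]) (h.cast_ne k) ?_
    intro u l hu hl hl1 hinj
    have hl' : ∀ i, bar ρ g (u i) = l i • u i := hl
    have hrank : finrank (AlgebraicClosure F) (LinearMap.range (bar ρ g - 1)) ≤ 3 := by
      rw [bar_sub_one]
      exact (Cfsg.Agent.H574.Deg4.finrank_range_map (algebraMap F (AlgebraicClosure F)) _).trans hrk
    have hl0 : ∀ i, l i ≠ 0 := by
      intro i h0
      have h1 : bar ρ g⁻¹ (bar ρ g (u i)) = u i := by
        rw [← Module.End.mul_apply, ← map_mul, inv_mul_cancel, map_one, Module.End.one_apply]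
      rw [hl', h0, zero_smul, map_zero] at h1
      exact hu i h1.symm
    have hpow : ∀ i (n : ℕ), bar ρ (g ^ n) (u i) = l i ^ n • u i := by
      intro i n
      induction n with
      | zero => simp
      | succ n ih => rw [pow_succ', map_mul, Module.End.mul_apply, ih, map_smul, hl', smul_smul, pow_succ]
    have hlr : ∀ i, l i ^ r ^ k = 1 := by
      intro i
      have h1 := hpow i (r ^ k)
      rw [hg, map_one, Module.End.one_apply] at h1
      have h2 : (l i ^ r ^ k - 1) • u i = 0 := by rw [sub_smul, one_smul, ← h1, sub_self]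
      exact sub_eq_zero.1 ((smul_eq_zero.1 h2).resolve_right (hu i))
    have hpos : ∀ μ : AlgebraicClosure F, (bar ρ g).eigenspace μ ≠ ⊥ →
        0 < finrank (AlgebraicClosure F) ((bar ρ g).eigenspace μ) := by
      intro μ hμ
      rw [Module.finrank_pos_iff]
      exact Submodule.nontrivial_iff_ne_bot.mpr hμ
    have hev : ∀ i, (bar ρ g).eigenspace (l i) ≠ ⊥ := by
      intro i h0
      have h3 : u i ∈ (bar ρ g).eigenspace (l i) := Module.End.mem_eigenspace_iff.2 (hl' i)
      rw [h0] at h3
      exact hu i h3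
    -- the inverse of an eigenvalue
    have hinv : ∀ i, (bar ρ g).eigenspace (l i)⁻¹ ≠ ⊥ := by
      intro i h0
      obtain ⟨b, m, hb⟩ := Cfsg.Agent.H574.Deg4.exists_eigenbasis (bar ρ g) (bar_pow_one hg)
        (natCast_ne_bar (h.cast_ne k))
      apply hu i
      apply h.iso.bar_nd
      intro v
      rw [← b.sum_repr v, map_sum]
      refine Finset.sum_eq_zero fun j _ => ?_
      rw [map_smul]
      have h1 : barForm B (u i) (b j) = l i * m j * barForm B (u i) (b j) := by
        conv_lhs => rw [← h.iso.bar_inv g, hl', hb, map_smul, map_smul, LinearMap.smul_apply, smul_eq_mul, smul_eq_mul]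
        ring
      by_cases h3 : l i * m j = 1
      · exfalso
        have h4 : m j = (l i)⁻¹ := eq_inv_of_mul_eq_one_right h3
        have h5 : b j ∈ (bar ρ g).eigenspace (l i)⁻¹ := Module.End.mem_eigenspace_iff.2 (by rw [hb, h4])
        rw [h0] at h5
        exact b.ne_zero j h5
      · have h4 : (1 - l i * m j) * barForm B (u i) (b j) = 0 := by rw [sub_mul, one_mul, ← h1, sub_self]
        rw [(mul_eq_zero.1 h4).resolve_left (sub_ne_zero.2 (Ne.symm h3)), smul_zero]
    -- the inverse is one of the three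
    have hmem : ∀ i, ∃ j, l j = (l i)⁻¹ := by
      intro i
      by_contra hcon
      push Not at hcon
      have h3 := sum_eigenspace_le (bar ρ g) (κ := Fin 4) (l := ![(l i)⁻¹, l 0, l 1, l 2]) (by
        intro a c hac
        fin_cases a <;> fin_cases c
        · rfl
        · exact absurd hac.symm (hcon 0)
        · exact absurd hac.symm (hcon 1)
        · exact absurd hac.symm (hcon 2)
        · exact absurd hac (hcon 0)
        · rfl
        · exact absurd (hinj hac) (by decide)
        · exact absurd (hinj hac) (by decide)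
        · exact absurd hac (hcon 1)
        · exact absurd (hinj hac) (by decide)
        · rfl
        · exact absurd (hinj hac) (by decide)
        · exact absurd hac (hcon 2)
        · exact absurd (hinj hac) (by decide)
        · exact absurd (hinj hac) (by decide)
        · rfl) (by
        intro j
        fin_cases j
        · intro h5
          exact hl1 i (inv_eq_one.1 h5)
        · exact hl1 0
        · exact hl1 1
        · exact hl1 2)
      rw [Fin.sum_univ_four] at h3
      have := hpos _ (hinv i)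
      have := hpos _ (hev 0)
      have := hpos _ (hev 1)
      have := hpos _ (hev 2)
      change finrank (AlgebraicClosure F) ((bar ρ g).eigenspace (l i)⁻¹) +
        finrank (AlgebraicClosure F) ((bar ρ g).eigenspace (l 0)) +
        finrank (AlgebraicClosure F) ((bar ρ g).eigenspace (l 1)) +
        finrank (AlgebraicClosure F) ((bar ρ g).eigenspace (l 2)) ≤ _ at h3
      omega
    choose s hs using hmem
    have hs1 : ∀ i, s (s i) = i := by
      intro i
      apply hinj
      rw [hs, hs, inv_inv]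
    have hs2 : ∀ i, s i ≠ i := by
      intro i h0
      have h1 := hs i
      rw [h0] at h1
      have h3 : l i ^ 2 = 1 := by
        rw [pow_two]
        nth_rewrite 2 [h1]
        exact mul_inv_cancel₀ (hl0 i)
      have h4 : Nat.Coprime (r ^ k) 2 := Nat.Coprime.pow_left _ ((Nat.coprime_primes h.rr Nat.prime_two).2 (by
        have := h.r5; omega))
      have h5 := Nat.dvd_gcd (orderOf_dvd_of_pow_eq_one (hlr i)) (orderOf_dvd_of_pow_eq_one h3)
      rw [h4, Nat.dvd_one] at h5
      exact hl1 i (orderOf_eq_one_iff.1 h5)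
    have hdec : ∀ s : Fin 3 → Fin 3, (∀ i, s (s i) = i) → (∀ i, s i ≠ i) → False := by decide
    exact hdec s hs1 hs2
  apply eq_one_of_coprime hg _ (h.cop k)
  apply h.iso.inj
  rw [map_pow, hM, map_one]

end Cfsg.Agent.H558.Orth
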