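import Cfsg.Agent.H558.Orth.Els

/-!
# Elements centralising the quaternion pairs
-/

set_option autoImplicit false
set_option linter.unusedSectionVars false

namespace Cfsg.Agent.H558.Orth

open Module QuadraticMap Cfsg.Agent.H167.OP Cfsg.Agent.H170.HL Cfsg.Agent.H170.HL.OmRow Cfsg.Agent.H556.Om
open Cfsg.Agent.H558.Deg4Data

variable {F : Type*} [Field F] [Finite F] {ι : Type} [Fintype ι] [DecidableEq ι] {Q : QuadraticForm F (ι → F)}
variable {K : Type} [Fintype K] [DecidableEq K] {E : K × A4 → ι → F} {x y : K × Bool → Cfsg.Omega F (⇑Q)}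
  {a b : Cfsg.Omega F (⇑Q)} {q r : ℕ}

theorem Cfg.fix (C : Cfg Q E x y a b) (hr : PO F q r) {h : Cfsg.Omega F (⇑Q)} {k : ℕ} (hk : h ^ r ^ k = 1)
    (hc : ∀ i, h * x i = x i * h) (j : K × A4) : rep (inc (⇑Q)) h (E j) = E j := by
  obtain ⟨i, c⟩ := j
  have h2 := hr.two
  have hF := Ek_frame C.frame i
  have h1 : rep (inc (⇑Q)) (x (i, true) * x (i, false)) = mono (polarBilin Q) (Ek E i) (sg F (0, 0) (1, 0)) id := by
    rw [map_mul, C.hx, C.hx, mono_mul hF h2]
    congr 1
    · funext k
      exact tau1 F k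
    · funext k
      have : ∀ k : A4, (1, 0) + ((1, 0) + k) = k := by decide
      exact this k
  have h3 : rep (inc (⇑Q)) (x (i, true) * x (i, false) * (x (i, true) * x (i, true)))
      = mono (polarBilin Q) (Ek E i) (sg F (0, 1) (1, 1)) id := by
    rw [map_mul, h1, C.rep_xx h2, mono_mul hF h2]
    congr 1
    funext k
    rw [mul_comm]
    exact tau2 F k
  have c1 : h * (x (i, true) * x (i, false)) = x (i, true) * x (i, false) * h := by
    rw [← mul_assoc, hc, mul_assoc, hc, ← mul_assoc]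
  have c2 : h * (x (i, true) * x (i, true)) = x (i, true) * x (i, true) * h := by
    rw [← mul_assoc, hc, mul_assoc, hc, ← mul_assoc]
  have c3 : h * (x (i, true) * x (i, false) * (x (i, true) * x (i, true)))
      = x (i, true) * x (i, false) * (x (i, true) * x (i, true)) * h := by
    rw [← mul_assoc, c1, mul_assoc, c2, ← mul_assoc]
  have f1 := fix_of_comm hr hF (by decide) hk h1 c1
  have f3 := fix_of_comm hr hF (by decide) hk h3 c3
  have hcase : ∀ c : A4, c = (0, 0) ∨ c = (1, 0) ∨ c = (0, 1) ∨ c = (1, 1) := by decide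
  rcases hcase c with rfl | rfl | rfl | rfl
  · exact f1.1
  · exact f1.2
  · exact f3.1
  · exact f3.2

theorem card_KA : Fintype.card (K × A4) = 4 * Fintype.card K := by
  have h4 : Fintype.card A4 = 4 := rfl
  rw [Fintype.card_prod, h4, mul_comm]

theorem Cfg.tor (C : Cfg Q E x y a b) (hQ : GoodQ Q) (hr : PO F q r) {h : Cfsg.Omega F (⇑Q)}
    (hk : ∃ k, h ^ r ^ k = 1) (hc : ∀ i, h * x i = x i * h)
    (hor : h * a = a * h ∨ h * b = b * h ∨ h * (a * b) = a * b * h) : h = 1 := by
  obtain ⟨k, hk⟩ := hk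
  have h2 := hr.two
  have hfix := C.fix hr hk hc
  rcases C.hab with ⟨hcard, -, -⟩ | ⟨w, hw, ho, ha, hb⟩
  · exact eq_one_of_fix hr hQ C.frame hk hfix (by rw [card_KA]; exact hcard)
  · have key : ∀ l m : Fin 3, l ≠ m → rep (inc (⇑Q)) h (w l) = w l → rep (inc (⇑Q)) h (w m) = w m → h = 1 := by
      intro l m hlm hl hm
      have hF2 := frame_sum C.frame (hw.comp (κ := ![l, m]) (by
        intro s t hst
        fin_cases s <;> fin_cases t
        · rfl
        · exact absurd hst hlm
        · exact absurd hst.symm hlm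
        · rfl)) (fun j k => ho j _)
      refine eq_one_of_fix hr hQ hF2 hk ?_ (by
        rw [Fintype.card_sum, card_KA, Fintype.card_fin]
        have := C.hc
        omega)
      rintro (j | j)
      · exact hfix j
      · fin_cases j
        · exact hl
        · exact hm
    rcases hor with h1 | h1 | h1
    · obtain ⟨f1, f3⟩ := fix_of_comm hr hw (by decide) hk ha h1
      exact key 0 1 (by decide) f1 f3
    · obtain ⟨f1, f3⟩ := fix_of_comm hr hw (by decide) hk hb h1
      exact key 1 2 (by decide) f1 f3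
    · have hab : rep (inc (⇑Q)) (a * b) = mono (polarBilin Q) w (sg F 0 2) id := by
        rw [map_mul, ha, hb, mono_mul hw h2]
        congr 1
        funext k
        fin_cases k <;> simp [sg]
      obtain ⟨f1, f3⟩ := fix_of_comm hr hw (by decide) hk hab h1
      exact key 0 2 (by decide) f1 f3

theorem Cfg.neg_mem_span (C : Cfg Q E x y a b) (h2 : (2 : F) ≠ 0) (i : K) {v : ι → F}
    (hv : rep (inc (⇑Q)) (x (i, true) * x (i, true)) v = -v) : v ∈ Submodule.span F (Set.range (Ek E i)) := by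
  rw [C.rep_xx h2, mono_apply] at hv
  have h1 : v = ∑ j, ((2 : F)⁻¹ * polarBilin Q (Ek E i j) v) • Ek E i j := by
    have h3 : ∀ j, polarBilin Q (Ek E i j) v • ((2 : F)⁻¹ • ((-1 : F) • Ek E i (id j) - Ek E i j))
        = -(polarBilin Q (Ek E i j) v • Ek E i j) := by
      intro j
      have : (-1 : F) • Ek E i (id j) - Ek E i j = (2 : F) • (-Ek E i j) := by
        show (-1 : F) • Ek E i j - Ek E i j = _
        module
      have h' : (2 : F)⁻¹ • ((2 : F) • (-Ek E i j)) = -Ek E i j := by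
        rw [smul_smul, inv_mul_cancel₀ h2, one_smul]
      rw [this, h', smul_neg]
    rw [Finset.sum_congr rfl fun j _ => h3 j, Finset.sum_neg_distrib] at hv
    have h4 : (2 : F) • v = ∑ j, polarBilin Q (Ek E i j) v • Ek E i j := by
      have h5 : (2 : F) • v = v + v := by module
      rw [h5]
      have h6 := congrArg (fun u => u + v + ∑ j, polarBilin Q (Ek E i j) v • Ek E i j) hv
      simp only at h6
      have h7 : v + -∑ j, polarBilin Q (Ek E i j) v • Ek E i j + v + ∑ j, polarBilin Q (Ek E i j) v • Ek E i j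
          = v + v := by abel
      rw [h7] at h6
      rw [h6]; abel
    have h5 : v = (2 : F)⁻¹ • ((2 : F) • v) := by rw [smul_smul, inv_mul_cancel₀ h2, one_smul]
    conv_lhs => rw [h5, h4, Finset.smul_sum]
    refine Finset.sum_congr rfl fun j _ => ?_
    rw [smul_smul]
  rw [h1]
  exact Submodule.sum_mem _ fun j _ => Submodule.smul_mem _ _ (Submodule.subset_span ⟨j, rfl⟩)

theorem Cfg.frob (C : Cfg Q E x y a b) (hQ : GoodQ Q) (hr : PO F q r) {h : Cfsg.Omega F (⇑Q)}
    (hk : ∃ k, h ^ r ^ k = 1) (hc : ∀ i, h * x i = x i * h) {D : Subgroup (Cfsg.Omega F (⇑Q))}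
    (hD : IsPGroup 2 D) (hDx : ∀ d ∈ D, ∀ i, d * (x i * x i) = x i * x i * d) (hn : Nrm h D) : Cen h D := by
  classical
  obtain ⟨k, hk⟩ := hk
  have h2 := hr.two
  have hfix := C.fix hr hk hc
  set ρ := rep (inc (⇑Q)) with hρ
  let z : K → Cfsg.Omega F (⇑Q) := fun i => x (i, true) * x (i, true)
  let Γ : Subgroup (Cfsg.Omega F (⇑Q)) := Subgroup.centralizer (Set.range z)
  have hΓ : ∀ g ∈ Γ, ∀ i, g * z i = z i * g := fun g hg i => (Subgroup.mem_centralizer_iff.1 hg (z i) ⟨i, rfl⟩).symm
  have hhz : ∀ i, h * z i = z i * h := by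
    intro i
    show h * (x (i, true) * x (i, true)) = x (i, true) * x (i, true) * h
    rw [← mul_assoc, hc, mul_assoc, hc, ← mul_assoc]
  have hhΓ : h ∈ Γ := Subgroup.mem_centralizer_iff.2 (by
    rintro _ ⟨i, rfl⟩
    exact (hhz i).symm)
  have hDΓ : D ≤ Γ := fun d hd => Subgroup.mem_centralizer_iff.2 (by
    rintro _ ⟨i, rfl⟩
    exact (hDx d hd (i, true)).symm)
  -- the eigenspaces
  have hzE : ∀ i c, ρ (z i) (E (i, c)) = -E (i, c) := by
    intro i c
    have h1 : ρ (z i) = mono (polarBilin Q) (Ek E i) (fun _ => -1) id := C.rep_xx h2 (i, true)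
    have h3 : ρ (z i) (Ek E i c) = (-1 : F) • Ek E i (id c) := by
      rw [h1]; exact mono_e (Ek_frame C.frame i) h2 c
    rw [neg_one_smul] at h3
    exact h3
  have hgE : ∀ g ∈ Γ, ∀ i c, ρ g (E (i, c)) ∈ Submodule.span F (Set.range (Ek E i)) := by
    intro g hg i c
    apply C.neg_mem_span h2 i
    show ρ (z i) (ρ g (E (i, c))) = -ρ g (E (i, c))
    rw [← mul_ap, ← hΓ g hg, mul_ap, hzE, map_neg]
  have hfixspan : ∀ i, ∀ v ∈ Submodule.span F (Set.range (Ek E i)), ρ h v = v := by
    intro i v hv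
    have h1 : Submodule.span F (Set.range (Ek E i)) ≤ LinearMap.eqLocus (ρ h) LinearMap.id := by
      rw [Submodule.span_le]
      rintro _ ⟨c, rfl⟩
      exact hfix (i, c)
    exact h1 hv
  let W : Submodule F (ι → F) := ⨅ j, LinearMap.ker (polarBilin Q (E j))
  have hW : ∀ v, v ∈ W ↔ ∀ j, polarBilin Q (E j) v = 0 := by
    intro v
    rw [Submodule.mem_iInf]
    rfl
  have hgW : ∀ g ∈ Γ, ∀ v ∈ W, ρ g v ∈ W := by
    intro g hg v hv
    rw [hW] at hv ⊢
    rintro ⟨i, c⟩
    have h1 : polarBilin Q (E (i, c)) (ρ g v) = polarBilin Q (ρ g⁻¹ (E (i, c))) v := by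
      rw [← polar_omega g (ρ g⁻¹ (E (i, c))) v, ← hρ, ap_inv]
    rw [h1]
    have h3 := hgE g⁻¹ (Γ.inv_mem hg) i c
    have h4 : Submodule.span F (Set.range (Ek E i)) ≤ LinearMap.ker ((polarBilin Q).flip v) := by
      rw [Submodule.span_le]
      rintro _ ⟨d, rfl⟩
      exact hv (i, d)
    exact h4 h3
  -- dimension
  have hdimW : finrank F W ≤ 4 := by
    have h1 := Submodule.finrank_sup_add_finrank_inf_eq W (Submodule.span F (Set.range E))
    have h3 : W ⊓ Submodule.span F (Set.range E) = ⊥ := by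
      rw [eq_bot_iff]
      rintro v ⟨hv, hvE⟩
      obtain ⟨c, rfl⟩ := (Submodule.mem_span_range_iff_exists_fun F).1 hvE
      have h4 : ∀ j, c j = 0 := by
        intro j
        have h5 := (hW _).1 hv j
        rw [map_sum, Finset.sum_eq_single j] at h5
        · rw [map_smul, C.frame.self, smul_eq_mul] at h5
          exact (mul_eq_zero.mp h5).resolve_right h2
        · intro i _ hi
          rw [map_smul, C.frame.orth j i hi.symm, smul_zero]
        · intro h
          exact absurd (Finset.mem_univ _) h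
      rw [Finset.sum_eq_zero fun j _ => by rw [h4 j, zero_smul]]
      exact Submodule.zero_mem _
    rw [h3, finrank_bot, add_zero, finrank_span_eq_card (C.frame.linearIndependent h2), card_KA] at h1
    have h4 := Submodule.finrank_le (W ⊔ Submodule.span F (Set.range E))
    rw [Module.finrank_pi] at h4
    have := C.hc
    omega
  -- the representation on `W`
  let σ : Representation F Γ W :=
    { toFun := fun g => (ρ (g : Cfsg.Omega F (⇑Q))).restrict (hgW g g.2)
      map_one' := by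
        ext v
        simp
      map_mul' := fun g g' => by
        apply LinearMap.ext
        intro v
        apply Subtype.ext
        exact mul_ap ρ (g : Cfsg.Omega F (⇑Q)) g' (v : ι → F) }
  have hσ : ∀ (g : Γ) (v : W), ((σ g v : W) : ι → F) = ρ (g : Cfsg.Omega F (⇑Q)) v := fun _ _ => rfl
  have hD' : IsPGroup 2 (D.subgroupOf Γ) := hD.comap_of_injective Γ.subtype Γ.subtype_injective
  have hn' : Nrm (⟨h, hhΓ⟩ : Γ) (D.subgroupOf Γ) := by
    intro d hd
    exact hn (d : Cfsg.Omega F (⇑Q)) hd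
  have hA := Cfsg.Agent.H556.OmSmall.partA σ h2 ((polarBilin Q).compl₁₂ W.subtype W.subtype)
    (fun u v => by
      rw [LinearMap.compl₁₂_apply, LinearMap.compl₁₂_apply]
      exact polar_symm _ _)
    (fun u hu => by
      apply Subtype.ext
      apply hQ.nd.1
      intro v
      obtain ⟨c, w, hw, rfl⟩ := exists_decomp C.frame h2 v
      have h1 := hu ⟨w, (hW w).2 hw⟩
      rw [LinearMap.compl₁₂_apply] at h1
      change polarBilin Q (u : ι → F) w = 0 at h1
      rw [map_add, h1, add_zero, map_sum]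
      refine Finset.sum_eq_zero fun j _ => ?_
      rw [map_smul, polar_symm, (hW _).1 u.2 j, smul_zero])
    (fun g u v => by
      rw [LinearMap.compl₁₂_apply, LinearMap.compl₁₂_apply]
      exact polar_omega (g : Cfsg.Omega F (⇑Q)) _ _)
    hdimW hr.rr hr.r5 (n := k) (y := (⟨h, hhΓ⟩ : Γ)) (Subtype.ext hk) hD' hn'
  intro d hd
  have h1 : h * d * h⁻¹ * d⁻¹ = 1 := by
    apply rep_inj
    rw [map_one]
    refine ext_frame C.frame h2 (fun j => ?_) fun w hw => ?_
    · obtain ⟨i, c⟩ := j
      have h3 := hgE d⁻¹ (Γ.inv_mem (hDΓ hd)) i c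
      have h4 : ρ h⁻¹ (ρ d⁻¹ (E (i, c))) = ρ d⁻¹ (E (i, c)) := by
        have h5 := hfixspan i _ h3
        conv_lhs => rw [← h5]
        exact inv_ap ρ h _
      show ρ (h * d * h⁻¹ * d⁻¹) (E (i, c)) = E (i, c)
      rw [mul_ap, mul_ap, mul_ap, h4, ap_inv]
      exact hfix (i, c)
    · have h3 := hA ⟨d, hDΓ hd⟩ hd
      exact congrArg Subtype.val (LinearMap.congr_fun h3 ⟨w, (hW w).2 hw⟩)
  rw [mul_inv_eq_one, mul_inv_eq_iff_eq_mul] at h1
  exact h1

/-- the conditions on the prime, as a predicate -/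
def PP (F : Type*) [Field F] (q r : ℕ) : Prop := PO F q r

theorem Cfg.gData [Finite (Cfsg.Omega F (⇑Q))] (C : Cfg Q E x y a b) (hQ : GoodQ Q) (h2 : (2 : F) ≠ 0) (q : ℕ) :
    GData (PO F q) x y a b where
  four := C.four h2
  sq := C.sq h2
  inv := C.inv h2
  aa := (C.aab h2).1.1
  bb := (C.aab h2).1.2.1
  ab := (C.aab h2).1.2.2
  pairs := C.pairs h2
  ca := (C.aab h2).2.1
  cb := (C.aab h2).2.2
  cx := fun i r hr => cenR_four hr hQ (Ek_frame C.frame i.1) (xx F i.2) (by decide) (C.hx i)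
  cy := fun i r hr => cenR_four hr hQ (Ek_frame C.frame i.1) (yy F i.2) (by decide) (C.hy i)
  tor := fun r hr h hk hc hor => C.tor hQ hr hk hc hor
  frob := fun r hr h hk hc D hD hDx hn => C.frob hQ hr hk hc hD hDx hn

end Cfsg.Agent.H558.Orth
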